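import Cfsg.Agent.Lib.Solv.Schmidt

/-! Groups with a core-free maximal subgroup. -/

namespace Cfsg.Lib.Solv

open Subgroup Cfsg.Lib.Core
open scoped Cfsg.Lib.Transfer

variable {G : Type*} [Group G] {p : ℕ}

theorem eq_bot_of_le_of_normalCore {U N : Subgroup G} (hc : U.normalCore = ⊥) (hN : N.Normal)
    (h : N ≤ U) : N = ⊥ := le_bot_iff.1 (hc ▸ normal_le_normalCore.2 h)

/-- A subgroup meeting the kernel trivially is isomorphic to its image. -/
noncomputable def equivMapOfInfKer {G' : Type*} [Group G'] (f : G →* G') (H : Subgroup G)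
    (h : H ⊓ f.ker = ⊥) : H ≃* H.map f :=
  MulEquiv.ofBijective (f.subgroupMap H) ⟨(injective_iff_map_eq_one _).2 fun a ha =>
    Subtype.ext (mem_bot.1 (h ▸ mem_inf.2 ⟨a.2, congrArg Subtype.val ha⟩)), f.subgroupMap_surjective H⟩

theorem nonempty_equiv_of_sup_eq {N A B : Subgroup G} [N.Normal] (hA : A ⊓ N = ⊥) (hB : B ⊓ N = ⊥)
    (h : A ⊔ N = B ⊔ N) : Nonempty (A ≃* B) := by
  have e : A.map (QuotientGroup.mk' N) = B.map (QuotientGroup.mk' N) := by
    rw [← map_mk'_sup, h, map_mk'_sup]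
  exact ⟨((equivMapOfInfKer _ A (by rwa [QuotientGroup.ker_mk'])).trans
    (MulEquiv.subgroupCongr e)).trans (equivMapOfInfKer _ B (by rwa [QuotientGroup.ker_mk'])).symm⟩

section CoreFree
variable {U : Subgroup G} (hU : IsCoatom U) (hc : U.normalCore = ⊥)
include hU hc

theorem sup_eq_top_of_coreFree {N : Subgroup G} (hN : N.Normal) (h0 : N ≠ ⊥) : N ⊔ U = ⊤ :=
  sup_eq_top_of_isCoatom hU fun h => h0 (eq_bot_of_le_of_normalCore hc hN h)

theorem centralizer_inf_eq_bot_of_coreFree {N : Subgroup G} (hN : N.Normal) (h0 : N ≠ ⊥) :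
    centralizer (N : Set G) ⊓ U = ⊥ :=
  eq_bot_of_le_of_normalCore hc (normal_of_top_le_normalizer
    (sup_eq_top_of_coreFree hU hc hN h0 ▸ sup_le
      ((le_centralizer_iff.1 inf_le_left).trans (centralizer_le_normalizer _))
      (le_normalizer_inf le_normalizer_of_normal le_normalizer))) inf_le_right

theorem eq_centralizer_of_coreFree {N K : Subgroup G} (hN : N.Normal) (h0 : N ≠ ⊥) (hK : K.Normal)
    (hK0 : K ≠ ⊥) (h : K ≤ centralizer (N : Set G)) : K = centralizer (N : Set G) := by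
  have h1 := sup_inf_of_le_normalizer' (H := U) h le_normalizer_of_normal
  rw [sup_eq_top_of_coreFree hU hc hK hK0, top_inf_eq, inf_comm,
    centralizer_inf_eq_bot_of_coreFree hU hc hN h0, sup_bot_eq] at h1
  exact h1.symm

theorem isMinNormal_centralizer_of_coreFree {N : Subgroup G} (hN : N.Normal) (h0 : N ≠ ⊥)
    (h1 : centralizer (N : Set G) ≠ ⊥) : IsMinNormal (centralizer (N : Set G)) :=
  ⟨inferInstance, h1, fun _ hK h => or_iff_not_imp_left.2 fun hK0 =>
    eq_centralizer_of_coreFree hU hc hN h0 hK hK0 h⟩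

theorem normalizer_eq_of_coreFree {K : Subgroup G} (h0 : K ≠ ⊥) (hK : K ≤ U)
    (h : U ≤ normalizer (K : Set G)) : normalizer (K : Set G) = U :=
  ((hU.le_iff.1 h).resolve_left fun e =>
    h0 (eq_bot_of_le_of_normalCore hc (normalizer_eq_top_iff.1 e) hK))

/-- A non-trivial nilpotent normal subgroup is a self-centralizing minimal normal subgroup. -/
theorem centralizer_eq_of_coreFree {L : Subgroup G} (hL : L.Normal) (h0 : L ≠ ⊥)
    (hn : Group.IsNilpotent L) : centralizer (L : Set G) = L ∧ IsMinNormal L := by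
  have h1 := PGroup.inf_centralizer_ne_bot_of_nilpotent le_rfl le_normalizer h0
  have h2 := eq_centralizer_of_coreFree hU hc hL h0 inferInstance h1 inf_le_right
  have h3 : centralizer (L : Set G) ≠ ⊥ := h2 ▸ h1
  have h4 : centralizer (L : Set G) ≤ L := h2 ▸ inf_le_left
  have h5 := eq_centralizer_of_coreFree hU hc inferInstance h3 hL h0 (le_centralizer_iff.1 le_rfl)
  have h6 := eq_centralizer_of_coreFree hU hc inferInstance h3 inferInstance h3
    (h4.trans (le_centralizer_iff.1 le_rfl))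
  have h7 : centralizer (L : Set G) = L := h6.trans h5.symm
  exact ⟨h7, h7 ▸ isMinNormal_centralizer_of_coreFree hU hc hL h0 h3⟩

theorem inf_eq_bot_of_coreFree {L : Subgroup G} (hL : L.Normal) (h0 : L ≠ ⊥)
    (hn : Group.IsNilpotent L) : L ⊓ U = ⊥ := by
  have := centralizer_inf_eq_bot_of_coreFree hU hc hL h0
  rwa [(centralizer_eq_of_coreFree hU hc hL h0 hn).1] at this

theorem inf_centralizer_eq_bot_of_coreFree {L Q : Subgroup G} (hL : L.Normal) (h0 : L ≠ ⊥)
    (hn : Group.IsNilpotent L) (hQ0 : Q ≠ ⊥) (hQ : Q ≤ U) (h : U ≤ normalizer (Q : Set G)) :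
    L ⊓ centralizer (Q : Set G) = ⊥ :=
  le_bot_iff.1 ((inf_le_inf_left _ ((centralizer_le_normalizer _).trans
    (normalizer_eq_of_coreFree hU hc hQ0 hQ h).le)).trans (inf_eq_bot_of_coreFree hU hc hL h0 hn).le)

end CoreFree

/-- Core-free maximal subgroups of a finite solvable group are conjugate. -/
theorem exists_conj_eq_of_coreFree [Finite G] [Group.IsSolvable G] {U V : Subgroup G}
    (hU : IsCoatom U) (hUc : U.normalCore = ⊥) (hV : IsCoatom V) (hVc : V.normalCore = ⊥) :
    ∃ g : G, g ⋆ U = V := by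
  have : Nontrivial G := (nontrivial_iff (G := G)).1 ⟨⟨U, ⊤, hU.1⟩⟩
  have h0 : fittingSubgroup G ≠ ⊥ := fittingSubgroup_ne_bot
  set N := fittingSubgroup G
  have hN : N.Normal := inferInstance
  have hUN := inf_eq_bot_of_coreFree hU hUc hN h0 inferInstance
  have hVN := inf_eq_bot_of_coreFree hV hVc hN h0 inferInstance
  have hUs := sup_eq_top_of_coreFree hU hUc hN h0
  have hVs := sup_eq_top_of_coreFree hV hVc hN h0
  by_cases ht : N = ⊤
  · rw [ht, top_inf_eq] at hUN hVN
    exact ⟨1, by rw [Transfer.conj_one, hUN, hVN]⟩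
  obtain ⟨K, hK, -⟩ := exists_isChiefFactor_le hN inferInstance (lt_top_iff_ne_top.2 ht)
  obtain ⟨q, hq, -, -, k, -, hk⟩ := exists_prime_of_isChiefFactor hK inferInstance
  obtain ⟨p, hp, hpN⟩ := (centralizer_eq_of_coreFree hU hUc hN h0 inferInstance).2.exists_isPGroup
    inferInstance
  have := Fact.mk hp
  have := hK.2.1
  obtain ⟨a, ha⟩ := IsPGroup.iff_card.1 hpN
  have hpq : q ≠ p := by
    rintro rfl
    refine hK.1.not_ge (le_fittingSubgroup hK.2.1 (IsPGroup.isNilpotent (p := q) (IsPGroup.of_card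
      (n := a + k) ?_)))
    rw [← card_mul_relIndex hK.1.le, ha, hk, pow_add]
  have key : ∀ W : Subgroup G, N ⊔ W = ⊤ → N ⊔ (W ⊓ K) = K := fun W h => by
    rw [← sup_inf_of_le_normalizer' hK.1.le le_normalizer_of_normal, h, top_inf_eq]
  have key2 : ∀ W : Subgroup G, N ⊓ W = ⊥ → N ⊓ (W ⊓ K) = ⊥ := fun W h => by
    rw [← inf_assoc, h, bot_inf_eq]
  have key3 : ∀ W : Subgroup G, N ⊔ W = ⊤ → W ⊓ K ≠ ⊥ := fun W h e => hK.1.ne (by
    rw [← key W h, e, sup_bot_eq])
  have hc : Nat.card ↥(U ⊓ K) = q ^ k := Nat.eq_of_mul_eq_mul_left (Nat.card_pos (α := N)) (by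
    rw [← Coprime.card_sup_of_disjoint le_normalizer_of_normal (key2 U hUN), key U hUs, ← hk,
      card_mul_relIndex hK.1.le])
  obtain ⟨n, -, hn⟩ := Coprime.exists_map_conj_eq_of_sup_eq (N := N) (A := V ⊓ K) (B := U ⊓ K)
    le_normalizer_of_normal ((key U hUs).trans (key V hVs).symm) (key2 V hVN)
    (by rw [hc, ha]; exact Nat.Coprime.pow _ _ ((Nat.coprime_primes hq hp).2 hpq))
    (Or.inr inferInstance)
  refine ⟨n, ?_⟩
  rw [← normalizer_eq_of_coreFree hU hUc (key3 U hUs) inf_le_left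
    (le_normalizer_inf le_normalizer le_normalizer_of_normal), Transfer.conj_normalizer, hn,
    normalizer_eq_of_coreFree hV hVc (key3 V hVs) inf_le_left
    (le_normalizer_inf le_normalizer le_normalizer_of_normal)]

end Cfsg.Lib.Solv
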