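import Cfsg.Agent.Lib.Solv.SchmidtSE

/-! Gol'fand's maximal Schmidt groups: field lemmas and the order bound. -/

set_option autoImplicit false

namespace Cfsg.Lib.Golf

open Subgroup Cfsg.Lib.Core
open scoped commutatorElement

section Fld

variable {K : Type} [Field K] [Finite K]

/-- The multipliers of an additive subgroup of a finite field. -/
def mulStab (A : AddSubgroup K) : Subfield K where
  carrier := {c | ∀ x ∈ A, c * x ∈ A}
  mul_mem' := fun ha hb x hx => by rw [mul_assoc]; exact ha _ (hb x hx)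
  one_mem' := fun x hx => by rwa [one_mul]
  add_mem' := fun ha hb x hx => by rw [add_mul]; exact A.add_mem (ha x hx) (hb x hx)
  zero_mem' := fun x _ => by rw [zero_mul]; exact A.zero_mem
  neg_mem' := fun ha x hx => by rw [neg_mul]; exact A.neg_mem (ha x hx)
  inv_mem' := fun c hc => by
    have h : ∀ n : ℕ, ∀ x ∈ A, c ^ n * x ∈ A := fun n => by
      induction n with
      | zero => exact fun x hx => by rwa [pow_zero, one_mul]
      | succ n ih => exact fun x hx => by rw [pow_succ, mul_assoc]; exact ih _ (hc x hx)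
    by_cases h0 : c = 0
    · rw [h0, inv_zero]; exact fun x _ => by rw [zero_mul]; exact A.zero_mem
    obtain ⟨n, hn, e⟩ := isOfFinOrder_iff_pow_eq_one.1 (isOfFinOrder_of_finite (Units.mk0 c h0))
    have e' : c ^ (n - 1) * c = 1 := by
      rw [← pow_succ, Nat.sub_add_cancel hn]; simpa using congrArg Units.val e
    rw [← eq_inv_of_mul_eq_one_left e']
    exact h _

variable {p q a : ℕ} [hp : Fact p.Prime] [hq : Fact q.Prime] {ζ : K}

theorem card_subfield (hK : Nat.card K = p ^ a) (F : Subfield K) : ∃ d m, a = d * m ∧ Nat.card F = p ^ d := by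
  have h := Module.natCard_eq_pow_finrank (K := F) (V := K)
  obtain ⟨d, -, hd⟩ := (Nat.dvd_prime_pow hp.out).1 (hK ▸ F.toAddSubgroup.card_addSubgroup_dvd_card)
  refine ⟨d, Module.finrank F K, Nat.pow_right_injective hp.out.two_le ?_, hd⟩
  change Nat.card F = _ at hd
  simp only
  rw [← hK, h, hd, pow_mul]

theorem subfield_top (hK : Nat.card K = p ^ a) (ha : a = orderOf (p : ZMod q)) (hζ : IsPrimitiveRoot ζ q)
    {F : Subfield K} (h : ζ ∈ F) : F = ⊤ := by
  obtain ⟨d, m, e, hd⟩ := card_subfield hK F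
  have := Fintype.ofFinite F
  have h1 : ζ ^ p ^ d = ζ := by
    have := congrArg Subtype.val (FiniteField.pow_card (⟨ζ, h⟩ : F))
    rwa [← Nat.card_eq_fintype_card, hd] at this
  have h0 := hζ.ne_zero hq.out.ne_zero
  have hpos : 1 ≤ p ^ d := Nat.one_le_pow _ _ hp.out.pos
  have h2 : q ∣ p ^ d - 1 := hζ.dvd_of_pow_eq_one _ (mul_right_cancel₀ h0 (by
    rw [← pow_succ, Nat.sub_add_cancel hpos, h1, one_mul]))
  have h3 : a ∣ d := ha ▸ orderOf_dvd_of_pow_eq_one (by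
    have := (ZMod.natCast_eq_zero_iff _ _).2 h2
    rwa [Nat.cast_sub hpos, Nat.cast_pow, Nat.cast_one, sub_eq_zero] at this)
  have h4 : 1 < Nat.card F := Finite.one_lt_card
  have h5 : d ≠ 0 := by rintro rfl; rw [hd, pow_zero] at h4; exact h4.false
  have h6 : F.toAddSubgroup = ⊤ := AddSubgroup.eq_top_of_le_card _ (by
    change _ ≤ Nat.card F
    rw [hK, hd]; exact Nat.pow_le_pow_right hp.out.pos (Nat.le_of_dvd (Nat.pos_of_ne_zero h5) h3))
  exact eq_top_iff.2 fun x _ => (h6.ge trivial : x ∈ F.toAddSubgroup)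

theorem irr (hK : Nat.card K = p ^ a) (ha : a = orderOf (p : ZMod q)) (hζ : IsPrimitiveRoot ζ q)
    (A : AddSubgroup K) (h : ∀ x ∈ A, ζ * x ∈ A) {y : K} (hy : y ∈ A) (h0 : y ≠ 0) (x : K) : x ∈ A := by
  have : x / y ∈ mulStab A := (subfield_top hK ha hζ (F := mulStab A) h).ge trivial
  simpa [h0] using this y hy

theorem real_bound (hK : Nat.card K = p ^ a) (ha : a = orderOf (p : ZMod q)) (hζ : IsPrimitiveRoot ζ q)
    (A : AddSubgroup K) (h1 : (1 : K) ∈ A) (h : ∀ i : ℕ, ζ ^ i + ζ⁻¹ ^ i ∈ A) :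
    p ^ (2 * a) ≤ p ^ (if a % 2 = 1 then a else 3 * a / 2) * Nat.card A := by
  have h0 := hζ.ne_zero hq.out.ne_zero
  let A0 := AddSubgroup.closure (insert (1 : K) (Set.range fun i : ℕ => ζ ^ i + ζ⁻¹ ^ i))
  have s : ∀ i : ℕ, ζ ^ i + ζ⁻¹ ^ i ∈ A0 := fun i => AddSubgroup.subset_closure (.inr ⟨i, rfl⟩)
  have one : (1 : K) ∈ A0 := AddSubgroup.subset_closure (.inl rfl)
  have hτ : ζ + ζ⁻¹ ∈ mulStab A0 := fun x hx => by
    induction hx using AddSubgroup.closure_induction with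
    | mem x hx =>
      rcases hx with rfl | ⟨i, rfl⟩
      · simpa using s 1
      · rcases i with _ | i
        · convert A0.add_mem (s 1) (s 1) using 1; ring
        · convert A0.add_mem (s (i + 2)) (s i) using 1
          linear_combination (ζ ^ i + ζ⁻¹ ^ i) * mul_inv_cancel₀ h0
    | zero => rw [mul_zero]; exact A0.zero_mem
    | add x y _ _ hx hy => rw [mul_add]; exact A0.add_mem hx hy
    | neg x _ hx => rw [mul_neg]; exact A0.neg_mem hx
  set F := mulStab A0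
  have le : F.toAddSubgroup ≤ A := fun x hx =>
    (show A0 ≤ A from (AddSubgroup.closure_le A).2 (by rintro _ (rfl | ⟨i, rfl⟩); exacts [h1, h i]))
      (by simpa using hx 1 one)
  let f : F × F →+ K := F.subtype.toAddMonoidHom.coprod ((AddMonoidHom.mulLeft ζ).comp F.subtype.toAddMonoidHom)
  have hf : Function.Surjective f := fun x => irr hK ha hζ f.range (by
    rintro _ ⟨⟨c, d⟩, rfl⟩
    refine ⟨(-d, c + ⟨_, hτ⟩ * d), ?_⟩
    simp [f]; field_simp; ring) ⟨(1, 0), by simp [f]⟩ one_ne_zero x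
  obtain ⟨d, m, e, hd⟩ := card_subfield hK F
  have c1 := Nat.card_le_card_of_surjective f hf
  rw [Nat.card_prod, hK, hd, ← pow_add] at c1
  have c2 : a ≤ d + d := (Nat.pow_le_pow_iff_right hp.out.one_lt).1 c1
  have c3 : p ^ d ≤ Nat.card A := hd ▸ AddSubgroup.card_le_of_le le
  refine le_trans ?_ (Nat.mul_le_mul_left _ c3)
  rw [← pow_add]
  refine Nat.pow_le_pow_right hp.out.pos ?_
  split_ifs with ho
  · rcases m with _ | _ | _ | m
    · omega
    · omega
    · omega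
    · have : d ≠ 0 := by rintro rfl; omega
      have : d * (m + 1 + 1 + 1) = 3 * d + d * m := by ring
      omega
  · omega

end Fld

local notation "𝐂(" S ")" => centralizer ((S : Subgroup _) : Set _)
local notation "𝐍(" S ")" => normalizer ((S : Subgroup _) : Set _)

variable {K : Type} [Field K] {Ω : Type*} [Group Ω] {ζ : K} {P : Subgroup Ω} {g : Ω} {π : Ω → K}

/-- `P` is a central extension of the field `K` on which `g` acts as multiplication by `ζ`. -/
structure Pre (ζ : K) (P : Subgroup Ω) (g : Ω) (π : Ω → K) : Prop where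
  norm : g ∈ 𝐍(P)
  add : ∀ x ∈ P, ∀ y ∈ P, π (x * y) = π x + π y
  surj : ∀ k, ∃ x ∈ P, π x = k
  conj : ∀ x ∈ P, π (g * x * g⁻¹) = ζ * π x
  ker : ∀ x ∈ P, π x = 0 → x ∈ 𝐂(P) ∧ g * x = x * g

/-- A model with `[P, g] = P`. -/
structure Md (ζ : K) (P : Subgroup Ω) (g : Ω) (π : Ω → K) : Prop extends Pre ζ P g π where
  full : ⁅P, zpowers g⁆ = P

/-- The map `π` as a homomorphism. -/
def Pre.hom (h : Pre ζ P g π) : P →* Multiplicative K :=
  MonoidHom.mk' (fun x => .ofAdd (π x)) fun x y => congrArg Multiplicative.ofAdd (h.add _ x.2 _ y.2)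

theorem Pre.one (h : Pre ζ P g π) : π 1 = 0 := h.hom.map_one

theorem Pre.inv (h : Pre ζ P g π) {x : Ω} (hx : x ∈ P) : π x⁻¹ = -π x := h.hom.map_inv ⟨x, hx⟩

theorem Pre.mem (h : Pre ζ P g π) (i : ℕ) {x : Ω} (hx : x ∈ P) : g ^ i * x * (g ^ i)⁻¹ ∈ P :=
  (mem_normalizer_iff.1 (pow_mem h.norm i) x).1 hx

theorem Pre.mem' (h : Pre ζ P g π) (i : ℕ) {x : Ω} (hx : x ∈ P) : (g ^ i)⁻¹ * x * g ^ i ∈ P :=
  (mem_normalizer_iff''.1 (pow_mem h.norm i) x).1 hx

theorem Pre.conj_pow (h : Pre ζ P g π) (i : ℕ) {x : Ω} (hx : x ∈ P) : π (g ^ i * x * (g ^ i)⁻¹) = ζ ^ i * π x := by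
  induction i with
  | zero => simp
  | succ i ih =>
    rw [show g ^ (i + 1) * x * (g ^ (i + 1))⁻¹ = g * (g ^ i * x * (g ^ i)⁻¹) * g⁻¹ by group, h.conj _ (h.mem i hx), ih]
    ring

theorem Pre.comm (h : Pre ζ P g π) {x y : Ω} (hx : x ∈ P) (hy : y ∈ P) : π ⁅x, y⁆ = 0 := by
  have := map_commutatorElement h.hom ⟨x, hx⟩ ⟨y, hy⟩
  rwa [commutatorElement_eq_one_iff_mul_comm.2 (mul_comm (h.hom _) _)] at this

theorem cmem {x y : Ω} (hx : x ∈ P) (hy : y ∈ P) : ⁅x, y⁆ ∈ P :=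
  mul_mem (mul_mem (mul_mem hx hy) (inv_mem hx)) (inv_mem hy)

/-- The image of a subgroup. -/
def Pre.img (h : Pre ζ P g π) (A : Subgroup Ω) : AddSubgroup K :=
  AddSubgroup.toSubgroup.symm ((A.subgroupOf P).map h.hom)

theorem Pre.mem_img (h : Pre ζ P g π) {A : Subgroup Ω} {k : K} : k ∈ h.img A ↔ ∃ x ∈ P, x ∈ A ∧ π x = k :=
  ⟨fun ⟨x, hx, e⟩ => ⟨x, x.2, hx, e⟩, fun ⟨x, hx, hx', e⟩ => ⟨⟨x, hx⟩, hx', e⟩⟩

variable [Finite Ω] {p q a : ℕ} [hp : Fact p.Prime] [hq : Fact q.Prime]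

theorem Md.ker_le (h : Md ζ P g π) (hc : (orderOf g).Coprime (Nat.card P)) {z : Ω} (hz : z ∈ P) (h0 : π z = 0) :
    z ∈ ⁅P, P⁆ := by
  have hn : zpowers g ≤ 𝐍(P) := zpowers_le.2 h.norm
  set H := P ⊔ zpowers g
  have n1 : (P.subgroupOf H).Normal := normal_subgroupOf_of_le_normalizer (sup_le le_normalizer hn)
  set P' := P.subgroupOf H
  set A := (zpowers g).subgroupOf H
  have hc' : (Nat.card A).Coprime (Nat.card P') := by
    rwa [Nat.card_congr (subgroupOfEquivOfLe le_sup_left).toEquiv, Nat.card_congr (subgroupOfEquivOfLe le_sup_right).toEquiv,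
      Nat.card_zpowers]
  have hPg : ⁅P', A⁆ = P' := map_injective H.subtype_injective (by
    rw [map_commutator, map_subgroupOf_eq_of_le le_sup_left, map_subgroupOf_eq_of_le le_sup_right, h.full])
  have h1 := Coprime.centralizer_inf_commutator_eq_bot
    (A := A.map (QuotientGroup.mk' ⁅P', P'⁆)) (V := P'.map (QuotientGroup.mk' ⁅P', P'⁆))
    (le_centralizer_iff_isMulCommutative.1 (commutator_eq_bot_iff_le_centralizer.1
      ((commutator_le_iff_map_mk' _ _ _).1 le_rfl)))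
    (haveI := Normal.map n1 _ (QuotientGroup.mk'_surjective ⁅P', P'⁆); le_normalizer_of_normal)
    ((hc'.coprime_dvd_left (card_map_dvd _ _)).coprime_dvd_right (card_map_dvd _ _))
  rw [← map_commutator, hPg] at h1
  have h2 : QuotientGroup.mk' ⁅P', P'⁆ ⟨z, le_sup_left (a := P) hz⟩ ∈ (⊥ : Subgroup _) := h1 ▸ ⟨by
    rintro _ ⟨⟨t, _⟩, ⟨i, rfl⟩, rfl⟩
    rw [← map_mul, ← map_mul]
    exact congrArg _ (Subtype.ext (Commute.zpow_left (h.ker z hz h0).2 i)), mem_map_of_mem _ hz⟩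
  have h3 := mem_map_of_mem H.subtype ((QuotientGroup.eq_one_iff _).1 (mem_bot.1 h2))
  rwa [map_commutator, map_subgroupOf_eq_of_le le_sup_left] at h3

variable [Finite K]

theorem Md.card_le (h : Md ζ P g π) (hc : (orderOf g).Coprime (Nat.card P)) (hK : Nat.card K = p ^ a)
    (ha : a = orderOf (p : ZMod q)) (hζ : IsPrimitiveRoot ζ q) :
    Nat.card P ≤ p ^ (if a % 2 = 1 then a else 3 * a / 2) := by
  have c1 : ∀ x ∈ P, ∀ y ∈ P, ⁅x, y⁆ ∈ 𝐂(P) := fun x hx y hy => (h.ker _ (cmem hx hy) (h.comm hx hy)).1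
  have cg : ∀ i : ℕ, ∀ x ∈ P, ∀ y ∈ P, ⁅g ^ i * x * (g ^ i)⁻¹, y⁆ = ⁅x, (g ^ i)⁻¹ * y * g ^ i⁆ := fun i x hx y hy => by
    have := (Commute.pow_left (h.ker _ (cmem hx (h.mem' i hy)) (h.comm hx (h.mem' i hy))).2 i).eq
    rw [← mul_inv_cancel_right ⁅x, _⁆ (g ^ i), ← this]
    simp only [commutatorElement_def]; group
  obtain ⟨x, hx, x1⟩ := h.surj 1
  let θ := Solv.commHom c1 hx
  let C : Subgroup Ω := ⨅ y : P, (θ.range.comap (Solv.commHom c1 y.2)).map P.subtype
  have mC : ∀ w ∈ P, w ∈ C ↔ ∀ y ∈ P, ⁅w, y⁆ ∈ θ.range := fun w hw => by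
    simp only [C, mem_iInf]
    refine ⟨fun e y hy => ?_, fun e y => ⟨⟨w, hw⟩, ?_, rfl⟩⟩
    · obtain ⟨w, e', rfl⟩ := e ⟨y, hy⟩
      rw [← commutatorElement_inv]
      exact inv_mem e'
    · change ⁅(y : Ω), w⁆ ∈ θ.range
      rw [← commutatorElement_inv]
      exact inv_mem (e y y.2)
  have all : ∀ w ∈ P, w ∈ C := fun w hw => by
    obtain ⟨v, hv, vC, e⟩ := h.mem_img.1 (irr hK ha hζ (h.img C) (fun k hk => by
      obtain ⟨v, hv, vC, rfl⟩ := h.mem_img.1 hk
      refine h.mem_img.2 ⟨_, h.mem 1 hv, (mC _ (h.mem 1 hv)).2 fun y hy => ?_, by rw [h.conj_pow 1 hv, pow_one]⟩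
      rw [cg 1 v hv y hy]
      exact (mC v hv).1 vC _ (h.mem' 1 hy))
      (h.mem_img.2 ⟨x, hx, (mC x hx).2 fun y hy => ⟨⟨y, hy⟩, rfl⟩, x1⟩) one_ne_zero (π w))
    have m := mul_mem (inv_mem hv) hw
    rw [← mul_inv_cancel_left v w]
    refine mul_mem vC ((mC _ m).2 fun y hy => ?_)
    rw [commutatorElement_eq_one_iff_mul_comm.2 ((h.ker _ m (by rw [h.add _ (inv_mem hv) _ hw, h.inv hv, e]; ring)).1 y hy).symm]
    exact one_mem _
  have k1 : h.hom.ker.map P.subtype ≤ θ.range := by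
    rintro _ ⟨z, hz, rfl⟩
    exact commutator_le.2 (fun u hu v hv => (mC u hu).1 (all u hu) v hv) (h.ker_le hc z.2 hz)
  have k2 : h.hom.ker ≤ θ.ker := fun z hz => commutatorElement_eq_one_iff_mul_comm.2 ((h.ker _ z.2 hz).1 x hx)
  have b := real_bound hK ha hζ (h.img (θ.ker.map P.subtype))
    (h.mem_img.2 ⟨x, hx, ⟨⟨x, hx⟩, commutatorElement_self x, rfl⟩, x1⟩) fun i => by
      have m := mul_mem (h.mem i hx) (h.mem' i hx)
      refine h.mem_img.2 ⟨_, m, ⟨⟨_, h.mem i hx⟩ * ⟨_, h.mem' i hx⟩, ?_, rfl⟩, ?_⟩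
      · rw [SetLike.mem_coe, MonoidHom.mem_ker, map_mul]
        change ⁅x, _⁆ * ⁅x, _⁆ = 1
        rw [← cg i x hx x hx, ← commutatorElement_inv, inv_mul_cancel]
      · have e := h.conj_pow i (h.mem' i hx)
        rw [show g ^ i * ((g ^ i)⁻¹ * x * g ^ i) * (g ^ i)⁻¹ = x by group, x1] at e
        rw [h.add _ (h.mem i hx) _ (h.mem' i hx), h.conj_pow i hx, x1, mul_one, inv_pow, eq_inv_of_mul_eq_one_right e.symm]
  have e1 : Nat.card h.hom.ker * p ^ a = Nat.card P := by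
    rw [← h.hom.ker.card_mul_index, index_ker, MonoidHom.range_eq_top.2 fun k => by
      obtain ⟨y, hy, e⟩ := h.surj k.toAdd
      exact ⟨⟨y, hy⟩, e⟩, card_top, ← hK]; rfl
  have e2 : Nat.card θ.ker * Nat.card θ.range = Nat.card P := by rw [← θ.ker.card_mul_index, index_ker]
  have e3 : Nat.card h.hom.ker ≤ Nat.card θ.range := by
    rw [← card_map_of_injective P.subtype_injective]; exact card_le_of_le k1
  have e4 : Nat.card h.hom.ker * Nat.card (h.img (θ.ker.map P.subtype)) = Nat.card θ.ker := by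
    have := (h.hom.ker.subgroupOf θ.ker).card_mul_index
    rw [Nat.card_congr (subgroupOfEquivOfLe k2).toEquiv, ← relIndex, relIndex_ker] at this
    rw [← this]
    congr 1
    change Nat.card ((((θ.ker.map P.subtype).subgroupOf P).map h.hom : Subgroup _)) = _
    rw [subgroupOf, comap_map_eq_self_of_injective P.subtype_injective]
  set D := Nat.card h.hom.ker
  set A := Nat.card (h.img (θ.ker.map P.subtype))
  have D0 : 0 < D := Nat.card_pos
  have A0 : 0 < A := Nat.card_pos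
  have e5 : D * A ≤ p ^ a := Nat.le_of_mul_le_mul_left (c := D) (by
    calc D * (D * A) ≤ Nat.card θ.range * Nat.card θ.ker := by rw [e4]; exact Nat.mul_le_mul_right _ e3
      _ = D * p ^ a := by rw [mul_comm, e2, e1]) D0
  refine Nat.le_of_mul_le_mul_right (le_trans ?_ b) A0
  rw [← e1, two_mul, pow_add, mul_right_comm]
  exact Nat.mul_le_mul_right _ e5

end Cfsg.Lib.Golf
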