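import Cfsg.Agent.Lib.Solv.GolfA

/-! Gol'fand's maximal Schmidt groups: models of minimal non-`p`-nilpotent groups. -/

set_option autoImplicit false

namespace Cfsg.Lib.Golf

open Subgroup Cfsg.Lib.Core Polynomial
open scoped commutatorElement

local notation "𝐂(" S ")" => centralizer ((S : Subgroup _) : Set _)
local notation "𝐍(" S ")" => normalizer ((S : Subgroup _) : Set _)

variable {K : Type} [Field K] {Ω : Type*} [Group Ω] {ζ : K} {P : Subgroup Ω} {g : Ω} {π : Ω → K}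

theorem Md.pow (h : Md ζ P g π) {k : ℕ} (e : zpowers (g ^ k) = zpowers g) : Md (ζ ^ k) P (g ^ k) π :=
  ⟨⟨pow_mem h.norm k, h.add, h.surj, fun _ hx => h.conj_pow k hx,
    fun x hx h0 => ⟨(h.ker x hx h0).1, Commute.pow_left (h.ker x hx h0).2 k⟩⟩, e ▸ h.full⟩

theorem Pre.md [Finite Ω] (h : Pre ζ P g π) (hc : (orderOf g).Coprime (Nat.card P)) (h1 : ζ ≠ 1) :
    Md ζ ⁅P, zpowers g⁆ g π := by
  have hn : zpowers g ≤ 𝐍(P) := zpowers_le.2 h.norm
  have le := Coprime.commutator_le_of_le_normalizer hn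
  refine ⟨⟨normalizer_commutator_ge_right _ _ (mem_zpowers g), fun x hx y hy => h.add x (le hx) y (le hy), fun k => ?_,
    fun x hx => h.conj x (le hx), fun x hx h0 => ⟨centralizer_le le (h.ker x (le hx) h0).1, (h.ker x (le hx) h0).2⟩⟩,
    Coprime.commutator_commutator_eq' hn (by rwa [Nat.card_zpowers])⟩
  obtain ⟨x, hx, e⟩ := h.surj (k / (1 - ζ))
  refine ⟨_, commutator_mem_commutator hx (mem_zpowers g), ?_⟩
  rw [show ⁅x, g⁆ = x * (g * x⁻¹ * g⁻¹) by rw [commutatorElement_def]; group,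
    h.add _ hx _ ((mem_normalizer_iff.1 h.norm _).1 (inv_mem hx)), h.conj _ (inv_mem hx), h.inv hx, e]
  field_simp [sub_ne_zero.2 h1.symm]
  ring

theorem Md.comap (h : Md ζ P g π) {Ω' : Type*} [Group Ω'] {f : Ω' →* Ω} (hf : Function.Injective f) (hP : P ≤ f.range)
    {g' : Ω'} (hg : f g' = g) : Md ζ (P.comap f) g' (π ∘ f) := by
  subst hg
  refine ⟨⟨mem_normalizer_iff.2 fun x => ?_, fun x hx y hy => ?_, fun k => ?_, fun x hx => ?_, fun x hx h0 => ⟨fun y hy => hf ?_, hf ?_⟩⟩,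
    map_injective hf ?_⟩
  · simpa using mem_normalizer_iff.1 h.norm (f x)
  · simpa using h.add _ hx _ hy
  · obtain ⟨x, hx, e⟩ := h.surj k
    obtain ⟨y, rfl⟩ := hP hx
    exact ⟨y, hx, e⟩
  · simpa using h.conj _ hx
  · simpa using (h.ker _ hx h0).1 _ hy
  · simpa using (h.ker _ hx h0).2
  · rw [map_commutator, map_comap_eq_self hP, MonoidHom.map_zpowers, h.full]

theorem Pre.cent_pow [Finite Ω] (h : Pre ζ P g π) (hc : (orderOf g).Coprime (Nat.card P)) {q : ℕ} (hq : ζ ^ q = 1) :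
    g ^ q ∈ 𝐂(P) := fun x hx => by
  have m := mul_mem (h.mem q hx) (inv_mem hx)
  have k := h.ker _ m (by rw [h.add _ (h.mem q hx) _ (inv_mem hx), h.conj_pow q hx, hq, h.inv hx]; ring)
  set c := g ^ q * x * (g ^ q)⁻¹ * x⁻¹ with hc'
  have e : ∀ n : ℕ, (g ^ q) ^ n * x = c ^ n * x * (g ^ q) ^ n := fun n => by
    induction n with
    | zero => simp
    | succ n ih =>
      rw [pow_succ', mul_assoc, ih, ← mul_assoc, ← mul_assoc, ((Commute.pow_left k.2 q).pow_right n).eq, pow_succ c,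
        mul_assoc (c ^ n) c, hc']
      group
  have e1 := e (orderOf g)
  rw [← pow_mul, mul_comm q, pow_mul, pow_orderOf_eq_one, one_pow, one_mul, mul_one, eq_comm, mul_eq_right] at e1
  have e2 : c = 1 := orderOf_eq_one_iff.1 (Nat.eq_one_of_dvd_coprimes hc (orderOf_dvd_of_pow_eq_one e1)
    (orderOf_dvd_natCard P m))
  exact (mul_inv_eq_iff_eq_mul.1 (mul_inv_eq_one.1 e2)).symm

/-- A full model. -/
structure Sch (p n : ℕ) (ζ : K) (P : Subgroup Ω) (g : Ω) (π : Ω → K) : Prop extends Md ζ P g π where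
  pg : IsPGroup p P
  ord : orderOf g = n
  sup : P ⊔ zpowers g = ⊤

variable [Finite Ω] {p q a r : ℕ} [hp : Fact p.Prime] [hq : Fact q.Prime]

theorem cop (hpq : p ≠ q) (hP : IsPGroup p P) (r : ℕ) : (q ^ r).Coprime (Nat.card P) := by
  obtain ⟨n, e⟩ := IsPGroup.iff_card.1 hP
  rw [e]
  exact Nat.Coprime.pow _ _ ((Nat.coprime_primes hq.out hp.out).2 hpq.symm)

omit [Finite Ω] hp hq in
theorem Sch.normal {n : ℕ} (h : Sch p n ζ P g π) : P.Normal :=
  normal_of_top_le_normalizer (h.sup.ge.trans (sup_le le_normalizer (zpowers_le.2 h.norm)))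

omit hp hq in
theorem Sch.dec {n : ℕ} (h : Sch p n ζ P g π) (y : Ω) : ∃ x ∈ P, ∃ i : ℕ, y = x * g ^ i := by
  obtain ⟨x, hx, z, hz, e⟩ := (mem_sup_of_le_normalizer_left (zpowers_le.2 h.norm)).1 (h.sup.ge (mem_top y))
  obtain ⟨i, rfl⟩ := (mem_powers_iff_mem_zpowers.2 hz)
  exact ⟨x, hx, i, e.symm⟩

omit [Finite Ω] hp hq in
theorem Sch.central {n : ℕ} (h : Sch p n ζ P g π) {x : Ω} (hx : x ∈ P) (h0 : π x = 0) : x ∈ center Ω := by
  have : P ⊔ zpowers g ≤ centralizer {x} := sup_le (fun y hy => mem_centralizer_singleton_iff.2 ((h.ker x hx h0).1 y hy))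
    (zpowers_le.2 (mem_centralizer_singleton_iff.2 (h.ker x hx h0).2))
  exact mem_center_iff.2 fun y => mem_centralizer_singleton_iff.1 (this (h.sup.ge (mem_top y)))

theorem Sch.card (h : Sch p (q ^ r) ζ P g π) (hpq : p ≠ q) : Nat.card Ω = Nat.card P * q ^ r := by
  rw [← card_top, ← h.sup, sup_comm, card_sup_of_disjoint (zpowers_le.2 h.norm)
    (Coprime.inf_eq_bot_of_coprime' (by rw [Nat.card_zpowers, h.ord]; exact cop hpq h.pg r)), Nat.card_zpowers, h.ord, mul_comm]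

variable [Finite K]

theorem Sch.minimal (h : Sch p (q ^ r) ζ P g π) (hpq : p ≠ q) (hK : Nat.card K = p ^ a)
    (ha : a = orderOf (p : ZMod q)) (hζ : IsPrimitiveRoot ζ q) :
    ¬ HasNormalPComplement p Ω ∧ ∀ H : Subgroup Ω, H ≠ ⊤ → HasNormalPComplement p H := by
  have hc : (orderOf g).Coprime (Nat.card P) := h.ord ▸ cop hpq h.pg r
  have := h.normal
  refine ⟨fun hn => ?_, fun H hH => ?_⟩
  · obtain ⟨x, hx, e⟩ := h.surj 1
    have := h.conj x hx
    rw [← Transfer.mem_centralizer_of_hasNormalPComplement hn h.pg h.norm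
      (h.ord ▸ Nat.Coprime.pow_left _ ((Nat.coprime_primes hq.out hp.out).2 hpq.symm)) x hx, mul_inv_cancel_right, e, mul_one] at this
    exact hζ.ne_one hq.out.one_lt this.symm
  suffices Group.IsNilpotent H from Transfer.hasNormalPComplement_of_isNilpotent
  by_cases c : H ≤ P ⊔ zpowers (g ^ q)
  · have := isNilpotent_sup_of_le_centralizer (le_centralizer_iff.1 (zpowers_le.2 (h.cent_pow hc hζ.pow_eq_one)))
      h.pg.isNilpotent (isNilpotent_of_isMulCommutative _)
    exact Group.nilpotent_of_mulEquiv (subgroupOfEquivOfLe c)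
  obtain ⟨y, hy, hy'⟩ := SetLike.not_le_iff_exists.1 c
  obtain ⟨x, hx, i, rfl⟩ := h.dec y
  have hi : i.Coprime q := ((Nat.Prime.coprime_iff_not_dvd hq.out).2 (by
    rintro ⟨j, rfl⟩
    exact hy' (mul_mem_sup hx (by rw [pow_mul]; exact pow_mem (mem_zpowers _) j)))).symm
  by_cases c : ∀ w ∈ P, w ∈ H → π w = 0
  · have := Solv.isCyclic_quotient_of_sup_zpowers h.sup
    have := ((QuotientGroup.mk' P).comp H.subtype).isMulCommutative_of_isCyclic_of_ker_le_center fun w hw => by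
      have hw' := (QuotientGroup.eq_one_iff _).1 hw
      exact mem_center_iff.2 fun v => Subtype.ext (mem_center_iff.1 (h.central hw' (c _ hw' w.2)) v)
    exact isNilpotent_of_isMulCommutative _
  push Not at c
  obtain ⟨w, hw, wH, w0⟩ := c
  have all : ∀ u ∈ P, ∃ v ∈ P, v ∈ H ∧ v⁻¹ * u ∈ center Ω ∧ π (v⁻¹ * u) = 0 := fun u hu => by
    obtain ⟨v, hv, vH, e⟩ := h.mem_img.1 (irr hK ha (hζ.pow_of_coprime i hi) (h.img H) (fun k hk => by
      obtain ⟨v, hv, vH, rfl⟩ := h.mem_img.1 hk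
      refine h.mem_img.2 ⟨x * (g ^ i * v * (g ^ i)⁻¹) * x⁻¹, mul_mem (mul_mem hx (h.mem i hv)) (inv_mem hx), ?_, ?_⟩
      · convert mul_mem (mul_mem hy vH) (inv_mem hy) using 1; group
      · rw [h.add _ (mul_mem hx (h.mem i hv)) _ (inv_mem hx), h.add _ hx _ (h.mem i hv), h.inv hx, h.conj_pow i hv]; ring)
      (h.mem_img.2 ⟨w, hw, wH, rfl⟩) w0 (π u))
    have e0 : π (v⁻¹ * u) = 0 := by rw [h.add _ (inv_mem hv) _ hu, h.inv hv, e]; ring
    exact ⟨v, hv, vH, h.central (mul_mem (inv_mem hv) hu) e0, e0⟩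
  have cm : ⁅P, P⁆ ≤ H := commutator_le.2 fun u hu u' hu' => by
    obtain ⟨v, -, vH, z, -⟩ := all u hu
    obtain ⟨v', -, vH', z', -⟩ := all u' hu'
    rw [← mul_inv_cancel_left v u, ← mul_inv_cancel_left v' u']
    generalize v⁻¹ * u = c at z
    generalize v'⁻¹ * u' = c' at z'
    have : ⁅v * c, v' * c'⁆ = ⁅v, v'⁆ := by
      have e1 := mem_center_iff.1 z
      have e2 := mem_center_iff.1 z'
      calc ⁅v * c, v' * c'⁆ = v * (c * (v' * c') * c⁻¹) * v⁻¹ * c'⁻¹ * v'⁻¹ := by rw [commutatorElement_def]; group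
        _ = v * v' * (c' * v⁻¹ * c'⁻¹) * v'⁻¹ := by rw [← e1]; group
        _ = ⁅v, v'⁆ := by rw [← e2, commutatorElement_def]; group
    rw [this]
    exact cmem vH vH'
  have PH : P ≤ H := fun u hu => by
    obtain ⟨v, hv, vH, -, z⟩ := all u hu
    rw [← mul_inv_cancel_left v u]
    exact mul_mem vH (cm (h.ker_le hc (mul_mem (inv_mem hv) hu) z))
  refine absurd (eq_top_iff.2 (h.sup.ge.trans (sup_le PH (zpowers_le.2 (zpowers_le.2
    ((mul_mem_cancel_left (PH hx)).1 hy) (mem_zpowers_pow_iff.2 ?_)))))) hH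
  rw [h.ord]; exact hi.pow_right r

theorem exists_eigen [CharP K p] [P.Normal] (hP : IsPGroup p P) (h0 : P ≠ ⊥) (hg : g ^ q ∈ 𝐂(P)) (hζ : IsPrimitiveRoot ζ q) :
    ∃ (ξ : K) (l : Additive P →+ K), ξ ^ q = 1 ∧ l ≠ 0 ∧ ∀ x : P, l (.ofMul (MulAut.conjNormal g x)) = ξ * l (.ofMul x) := by
  obtain ⟨M, -, hM, hn, hc⟩ := PGroup.exists_card_mul_eq_of_lt hP (bot_lt_iff_ne_bot.2 h0)
  have := normal_subgroupOf_of_le_normalizer hn
  have c : Nat.card (P ⧸ M.subgroupOf P) = p := by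
    have := (M.subgroupOf P).card_mul_index
    rw [Nat.card_congr (subgroupOfEquivOfLe hM).toEquiv, hc, mul_comm] at this
    exact Nat.eq_of_mul_eq_mul_right Nat.card_pos this
  let e := mulEquivOfPrimeCardEq (G' := Multiplicative (ZMod p)) c (by simp)
  let l : Additive P →+ K := (ZMod.castHom (dvd_refl p) K).toAddMonoidHom.comp
    (MonoidHom.toAdditiveLeft (e.toMonoidHom.comp (QuotientGroup.mk' _)))
  have l0 : l ≠ 0 := fun h => by
    obtain ⟨x, hx⟩ := (e.surjective.comp (QuotientGroup.mk'_surjective _)) (.ofAdd 1)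
    have : l (.ofMul x) = 1 := by
      change ZMod.castHom (dvd_refl p) K ((e ∘ QuotientGroup.mk' _) x).toAdd = 1
      rw [hx]; exact map_one _
    rw [h] at this
    exact zero_ne_one this
  let T : Module.End K (Additive P →+ K) :=
    { toFun := fun l => l.comp (MonoidHom.toAdditive (MulAut.conjNormal g : MulAut P).toMonoidHom)
      map_add' := fun _ _ => rfl
      map_smul' := fun _ _ => rfl }
  have hT : ∀ (n : ℕ) (l : Additive P →+ K) (x : P), (T ^ n) l (.ofMul x) = l (.ofMul (MulAut.conjNormal (g ^ n) x)) := fun n => by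
    induction n with
    | zero => simp
    | succ n ih => intro l x; rw [pow_succ, Module.End.mul_apply, ih, pow_succ', map_mul]; rfl
  by_contra hne
  push Not at hne
  have inj := Finset.prod_induction (fun ξ : K => X - C ξ) (fun f => Function.Injective (aeval T f))
    (fun f f' h h' => by rw [map_mul]; exact h.comp h') (by rw [map_one]; exact Function.injective_id)
    (s := nthRootsFinset q (1 : K)) fun ξ hξ => (injective_iff_map_eq_zero _).2 fun l hl => by
      by_contra l0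
      obtain ⟨x, hx⟩ := hne ξ l ((mem_nthRootsFinset hq.out.pos 1).1 hξ) l0
      have := DFunLike.congr_fun hl (.ofMul x)
      simp only [map_sub, aeval_X, aeval_C, LinearMap.sub_apply, Module.algebraMap_end_apply, AddMonoidHom.sub_apply,
        AddMonoidHom.zero_apply, sub_eq_zero] at this
      exact hx this
  rw [← X_pow_sub_one_eq_prod hq.out.pos hζ] at inj
  refine l0 ((injective_iff_map_eq_zero _).1 inj l (AddMonoidHom.ext fun x => ?_))
  simp only [map_sub, map_pow, aeval_X, map_one, LinearMap.sub_apply, Module.End.one_apply, AddMonoidHom.sub_apply,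
    AddMonoidHom.zero_apply, sub_eq_zero]
  refine (hT q l x.toMul).trans (congrArg (fun y => l (.ofMul y)) (Subtype.ext ?_))
  change g ^ q * _ * (g ^ q)⁻¹ = _
  rw [← hg _ x.toMul.2, mul_inv_cancel_right]; rfl

theorem exists_sch [CharP K p] (hpq : p ≠ q) (hr : 1 ≤ r) (hK : Nat.card K = p ^ a) (ha : a = orderOf (p : ZMod q))
    (hζ : IsPrimitiveRoot ζ q) (h1 : ¬ HasNormalPComplement p Ω) (h2 : ∀ H : Subgroup Ω, H ≠ ⊤ → HasNormalPComplement p H)
    {t : ℕ} (ht : Nat.card Ω = p ^ t * q ^ r) : ∃ (P : Subgroup Ω) (g : Ω) (π : Ω → K), Sch p (q ^ r) ζ P g π := by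
  classical
  obtain ⟨S, s, g, hn, hs, hsp, ⟨k, hk⟩, hsup, hg⟩ := Transfer.minimal_not_hasNormalPComplement h1 h2
  have := Fact.mk hs
  set P : Subgroup Ω := (S : Subgroup Ω)
  have hP : IsPGroup p P := S.2
  obtain ⟨j, -, hj⟩ := (Nat.dvd_prime_pow hs).1 (orderOf_dvd_of_pow_eq_one hk)
  have hcop : (Nat.card (zpowers g)).Coprime (Nat.card P) := by rw [Nat.card_zpowers, hj]; exact cop hsp.symm hP j
  have hd : zpowers g ⊓ P = ⊥ := Coprime.inf_eq_bot_of_coprime' hcop
  obtain ⟨m, hm⟩ := IsPGroup.iff_card.1 hP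
  have hcard : p ^ t * q ^ r = s ^ j * p ^ m := by
    rw [← ht, ← card_top, ← hsup, sup_comm, card_sup_of_disjoint le_normalizer_of_normal hd, Nat.card_zpowers, hj, hm]
  obtain rfl : q = s := by
    have : q ∣ s ^ j * p ^ m := hcard ▸ (dvd_pow_self q (by omega)).mul_left _
    exact (Nat.prime_dvd_prime_iff_eq hq.out hs).1 (hq.out.dvd_of_dvd_pow ((hq.out.dvd_mul.1 this).resolve_right fun e =>
      hpq ((Nat.prime_dvd_prime_iff_eq hq.out hp.out).1 (hq.out.dvd_of_dvd_pow e)).symm))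
  obtain rfl : r = j := by
    have := congrArg (fun n => n.factorization q) hcard
    simpa [Nat.factorization_mul, hp.out.ne_zero, hq.out.ne_zero, hp.out.factorization, hq.out.factorization, hpq] using this
  have co : ∀ n, (orderOf (g ^ n)).Coprime p := fun n => Nat.Coprime.coprime_dvd_left (orderOf_pow_dvd n)
    (hj ▸ Nat.Coprime.pow_left _ ((Nat.coprime_primes hq.out hp.out).2 hpq.symm))
  have k1 : ∀ A < P, g ∈ 𝐍(A) → g ∈ 𝐂(A) := fun A hA hn =>
    Transfer.mem_centralizer_of_hasNormalPComplement_subgroup (h2 (A ⊔ zpowers g) fun e => hA.ne (by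
      rw [← top_inf_eq P, ← e, sup_inf_of_le_normalizer' hA.le (zpowers_le.2 hn), hd, sup_bot_eq])) (hP.to_le hA.le) le_sup_left
      (le_sup_right (a := A) (mem_zpowers g)) hn (by simpa using co 1)
  have hPg : ⁅P, zpowers g⁆ = P := by
    by_contra e
    have := k1 _ (lt_of_le_of_ne (commutator_le_left _ _) e) (normalizer_commutator_ge_right _ _ (mem_zpowers g))
    exact hg (Coprime.le_centralizer_of_commutator_le le_rfl (zpowers_le.2 this)
      (hcop.coprime_dvd_right (card_dvd_of_le (commutator_le_left _ _))) (mem_zpowers g))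
  have hP0 : P ≠ ⊥ := fun e => hg fun x hx => by
    have : x ∈ (⊥ : Subgroup Ω) := e ▸ hx
    rw [mem_bot.1 this, one_mul, mul_one]
  have hgq : g ^ q ∈ 𝐂(P) := by
    refine Transfer.mem_centralizer_of_hasNormalPComplement_subgroup (h2 (P ⊔ zpowers (g ^ q)) fun e => hg ?_) hP le_sup_left
      (le_sup_right (a := P) (mem_zpowers _)) (le_normalizer_of_normal (mem_top _)) (co q)
    have h1 : g ∈ zpowers (g ^ q) := by
      have h2 := sup_inf_of_le_normalizer (N := P) (zpowers_le.2 (pow_mem (mem_zpowers g) q))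
        le_normalizer_of_normal
      rw [sup_comm, e, top_inf_eq, inf_comm, hd, sup_bot_eq] at h2
      exact h2 ▸ mem_zpowers g
    rw [Transfer.eq_one_of_pow_pow_eq_one_of_coprime hk (Nat.coprime_comm.1 (mem_zpowers_pow_iff.1 h1))]
    exact one_mem _
  obtain ⟨ξ, l, hξ, l0, hl⟩ := exists_eigen hP hP0 hgq hζ
  let l' : P →* Multiplicative K := AddMonoidHom.toMultiplicativeRight l
  let A := l'.ker.map P.subtype
  have hA : A < P := lt_of_le_of_ne (map_subtype_le _) fun e => l0 (AddMonoidHom.ext fun x => by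
    obtain ⟨y, hy, e'⟩ := e.ge x.toMul.2
    obtain rfl : y = x.toMul := Subtype.ext e'
    exact hy)
  have nA : g ∈ 𝐍(A) := mem_normalizer_fintype (by
    rintro _ ⟨y, hy, rfl⟩
    exact ⟨MulAut.conjNormal g y, (hl y).trans (mul_eq_zero_of_right _ hy), rfl⟩)
  have ξ1 : ξ ≠ 1 := by
    rintro rfl
    refine hA.not_ge (hPg.ge.trans (commutator_le.2 fun x hx y hy => ?_))
    obtain ⟨i, rfl⟩ := mem_powers_iff_mem_zpowers.2 hy
    have e : ∀ i : ℕ, ∀ x : P, l' (MulAut.conjNormal (g ^ i) x) = l' x := fun i => by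
      induction i with
      | zero => simp
      | succ i ih => exact fun x => by rw [pow_succ', map_mul, MulAut.mul_apply, ← ih x]; exact (hl _).trans (one_mul _)
    refine ⟨⟨x, hx⟩ * MulAut.conjNormal (g ^ i) (⟨x, hx⟩ : P)⁻¹, ?_, by
      change x * (g ^ i * x⁻¹ * (g ^ i)⁻¹) = ⁅x, g ^ i⁆
      rw [commutatorElement_def]; group⟩
    rw [SetLike.mem_coe, MonoidHom.mem_ker, map_mul, e, ← map_mul, mul_inv_cancel, map_one]
  have hξ' : IsPrimitiveRoot ξ q :=
    ((mem_nthRootsFinset_iff_of_prime hq.out).1 ((mem_nthRootsFinset hq.out.pos 1).2 hξ)).resolve_right ξ1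
  let π : Ω → K := fun x => if h : x ∈ P then l (.ofMul ⟨x, h⟩) else 0
  have hπ : ∀ x (h : x ∈ P), π x = l (.ofMul ⟨x, h⟩) := fun x h => dif_pos h
  have md : Md ξ P g π := by
    refine ⟨⟨le_normalizer_of_normal (mem_top _), fun x hx y hy => ?_, fun k => ?_, fun x hx => ?_, fun x hx h0 => ?_⟩, hPg⟩
    · rw [hπ _ (mul_mem hx hy), hπ _ hx, hπ _ hy, ← map_add]; rfl
    · obtain ⟨y, hy⟩ := DFunLike.ne_iff.1 l0
      obtain ⟨x, rfl⟩ := irr hK ha hξ' l.range (by rintro _ ⟨x, rfl⟩; exact ⟨_, hl x.toMul⟩) ⟨y, rfl⟩ hy k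
      exact ⟨_, x.toMul.2, hπ _ _⟩
    · rw [hπ _ (hn.conj_mem x hx g), hπ _ hx]; exact hl ⟨x, hx⟩
    · have xA : x ∈ A := ⟨⟨x, hx⟩, (hπ _ hx).symm.trans h0, rfl⟩
      exact ⟨le_centralizer_iff.1 (Coprime.le_centralizer_of_normal_of_fixed hPg
        (le_centralizer_iff.1 (zpowers_le.2 (k1 A hA nA))) (le_normalizer_map_subtype _)) xA, (k1 A hA nA x xA).symm⟩
  have := NeZero.mk hq.out.ne_zero
  obtain ⟨i, -, hi, rfl⟩ := hξ'.isPrimitiveRoot_iff.1 hζ
  have e : zpowers (g ^ i) = zpowers g := le_antisymm (zpowers_le.2 (pow_mem (mem_zpowers g) i))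
    (zpowers_le.2 (mem_zpowers_pow_iff.2 (by rw [hj]; exact hi.pow_right r)))
  exact ⟨P, g ^ i, π, md.pow e, hP, by rw [← Nat.card_zpowers, e, Nat.card_zpowers, hj], e ▸ hsup⟩

end Cfsg.Lib.Golf
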