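import Cfsg.Agent.Lib.Solv.GolfB

/-! Gol'fand's maximal Schmidt groups: universality and construction. -/

set_option autoImplicit false

namespace Cfsg.Lib.Golf

open Subgroup Cfsg.Lib.Core Polynomial
open scoped commutatorElement

universe u

variable {K : Type} [Field K] [Finite K] {ζ : K} {p q a r : ℕ} [hp : Fact p.Prime] [hq : Fact q.Prime]

theorem universal {X G : Type*} [Group X] [Finite X] [Group G] [Finite G] {P : Subgroup X} {g : X} {π : X → K}
    {P₀ : Subgroup G} {g₀ : G} {π₀ : G → K} (h : Sch p (q ^ r) ζ P g π) (h₀ : Sch p (q ^ r) ζ P₀ g₀ π₀) (hpq : p ≠ q)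
    (hK : Nat.card K = p ^ a) (ha : a = orderOf (p : ZMod q)) (hζ : IsPrimitiveRoot ζ q)
    (hc : p ^ (if a % 2 = 1 then a else 3 * a / 2) ≤ Nat.card P₀) :
    ∃ φ : G →* X, Function.Surjective φ ∧ φ.ker ≤ center G := by
  let R : Subgroup (X × G) :=
    { carrier := {x | x.1 ∈ P ∧ x.2 ∈ P₀ ∧ π x.1 = π₀ x.2}
      one_mem' := ⟨P.one_mem, P₀.one_mem, h.one.trans h₀.one.symm⟩
      mul_mem' := fun {x y} hx hy => ⟨mul_mem hx.1 hy.1, mul_mem hx.2.1 hy.2.1,
        (h.add _ hx.1 _ hy.1).trans (by rw [hx.2.2, hy.2.2]; exact (h₀.add _ hx.2.1 _ hy.2.1).symm)⟩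
      inv_mem' := fun {x} hx => ⟨inv_mem hx.1, inv_mem hx.2.1,
        (h.inv hx.1).trans (by rw [hx.2.2]; exact (h₀.inv hx.2.1).symm)⟩ }
  have pre : Pre ζ R (g, g₀) (fun x => π x.1) := by
    refine ⟨mem_normalizer_fintype fun x hx => ⟨(mem_normalizer_iff.1 h.norm _).1 hx.1, (mem_normalizer_iff.1 h₀.norm _).1 hx.2.1,
      (h.conj _ hx.1).trans (by rw [hx.2.2]; exact (h₀.conj _ hx.2.1).symm)⟩, fun x hx y hy => h.add _ hx.1 _ hy.1, fun k => ?_,
      fun x hx => h.conj _ hx.1, fun x hx h0 => ?_⟩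
    · obtain ⟨x, hx, e⟩ := h.surj k
      obtain ⟨y, hy, e'⟩ := h₀.surj k
      exact ⟨(x, y), ⟨hx, hy, e.trans e'.symm⟩, e⟩
    · have k := h.ker _ hx.1 h0
      have k' := h₀.ker _ hx.2.1 (hx.2.2.symm.trans h0)
      exact ⟨fun y hy => Prod.ext (k.1 _ hy.1) (k'.1 _ hy.2.1), Prod.ext k.2 k'.2⟩
  have pg : IsPGroup p R := fun x => by
    obtain ⟨k, hk⟩ := h.pg ⟨_, x.2.1⟩
    obtain ⟨l, hl⟩ := h₀.pg ⟨_, x.2.2.1⟩
    refine ⟨k + l, Subtype.ext (Prod.ext ?_ ?_)⟩
    · change x.1.1 ^ p ^ (k + l) = 1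
      rw [pow_add, pow_mul, show x.1.1 ^ p ^ k = 1 from congrArg Subtype.val hk, one_pow]
    · change x.1.2 ^ p ^ (k + l) = 1
      rw [pow_add, mul_comm, pow_mul, show x.1.2 ^ p ^ l = 1 from congrArg Subtype.val hl, one_pow]
  have ord : orderOf (g, g₀) = q ^ r := by rw [Prod.orderOf_mk, h.ord, h₀.ord, Nat.lcm_self]
  have md := pre.md (ord ▸ cop hpq pg r) (hζ.ne_one hq.out.one_lt)
  have le := Coprime.commutator_le_of_le_normalizer (zpowers_le.2 pre.norm)
  set R' := ⁅R, zpowers (g, g₀)⁆ with hR'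
  have b := md.card_le (ord ▸ cop hpq (pg.to_le le) r) hK ha hζ
  set Y := R' ⊔ zpowers (g, g₀) with hY
  have s1 : Function.Surjective ((MonoidHom.fst X G).comp Y.subtype) := by
    rw [← MonoidHom.range_eq_top, MonoidHom.range_comp, range_subtype, hY, Subgroup.map_sup, hR', map_commutator,
      MonoidHom.map_zpowers, show R.map (MonoidHom.fst X G) = P from le_antisymm (by rintro _ ⟨x, hx, rfl⟩; exact hx.1)
        fun x hx => let ⟨y, hy, e⟩ := h₀.surj (π x); ⟨(x, y), ⟨hx, hy, e.symm⟩, rfl⟩]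
    exact h.full.symm ▸ h.sup
  have s2 : Function.Surjective ((MonoidHom.snd X G).comp Y.subtype) := by
    rw [← MonoidHom.range_eq_top, MonoidHom.range_comp, range_subtype, hY, Subgroup.map_sup, hR', map_commutator,
      MonoidHom.map_zpowers, show R.map (MonoidHom.snd X G) = P₀ from le_antisymm (by rintro _ ⟨x, hx, rfl⟩; exact hx.2.1)
        fun x hx => let ⟨y, hy, e⟩ := h.surj (π₀ x); ⟨(y, x), ⟨hy, hx, e⟩, rfl⟩]
    exact h₀.full.symm ▸ h₀.sup
  let e := MulEquiv.ofBijective _ (s2.bijective_of_nat_card_le (by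
    rw [h₀.card hpq, hY, sup_comm, mul_comm]
    refine (Nat.le_of_dvd (Nat.mul_pos Nat.card_pos Nat.card_pos) (card_sup_dvd (zpowers_le.2 md.norm))).trans ?_
    rw [Nat.card_zpowers, ord]
    exact Nat.mul_le_mul_left _ (b.trans hc)))
  refine ⟨((MonoidHom.fst X G).comp Y.subtype).comp e.symm.toMonoidHom, s1.comp e.symm.surjective, fun y hy => ?_⟩
  obtain ⟨⟨w, hw⟩, rfl⟩ := e.surjective y
  have h1 : w.1 = 1 := by simpa using hy
  obtain ⟨v, hv, _, ⟨i, rfl⟩, rfl⟩ := (mem_sup_of_le_normalizer_left (zpowers_le.2 md.norm)).1 hw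
  have h2 : g ^ i = 1 := by
    have : g ^ i ∈ zpowers g ⊓ P := ⟨⟨i, rfl⟩, by
      rw [show g ^ i = v.1⁻¹ from eq_inv_of_mul_eq_one_right h1]; exact P.inv_mem (le hv).1⟩
    rwa [Coprime.inf_eq_bot_of_coprime' (by rw [Nat.card_zpowers, h.ord]; exact cop hpq h.pg r), mem_bot] at this
  have h3 : g₀ ^ i = 1 := by rwa [← orderOf_dvd_iff_zpow_eq_one, h₀.ord, ← h.ord, orderOf_dvd_iff_zpow_eq_one]
  have h4 : v.1 = 1 := by rw [← h1]; exact (mul_one _).symm.trans (congrArg _ h2.symm)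
  change v.2 * g₀ ^ i ∈ center G
  rw [h3, mul_one]
  exact h₀.central (le hv).2.1 (by rw [← (le hv).2.2, h4, h.one])

/-- The Heisenberg group over `K` extended by a group of scalars. -/
@[ext] structure Hs {C : Type} [CommGroup C] (χ : C →* K) where
  u : K
  w : K
  c : K
  i : C

namespace Hs

variable {C : Type} [CommGroup C] {χ : C →* K}

instance golfMul : Mul (Hs χ) :=
  ⟨fun x y => ⟨x.u + χ x.i * y.u, x.w + χ x.i⁻¹ * y.w, x.c + y.c + x.u * (χ x.i⁻¹ * y.w), x.i * y.i⟩⟩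
instance golfOne : One (Hs χ) := ⟨⟨0, 0, 0, 1⟩⟩
instance golfInv : Inv (Hs χ) := ⟨fun x => ⟨-(χ x.i⁻¹ * x.u), -(χ x.i * x.w), x.u * x.w - x.c, x.i⁻¹⟩⟩

omit [Finite K] in
theorem mul_def (x y : Hs χ) : x * y =
  ⟨x.u + χ x.i * y.u, x.w + χ x.i⁻¹ * y.w, x.c + y.c + x.u * (χ x.i⁻¹ * y.w), x.i * y.i⟩ := rfl
omit [Finite K] in
theorem one_def : (1 : Hs χ) = ⟨0, 0, 0, 1⟩ := rfl
omit [Finite K] in
theorem inv_def (x : Hs χ) : x⁻¹ = ⟨-(χ x.i⁻¹ * x.u), -(χ x.i * x.w), x.u * x.w - x.c, x.i⁻¹⟩ := rfl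

omit [Finite K] in
theorem chi (i : C) : χ i * χ i⁻¹ = 1 := by rw [← map_mul, mul_inv_cancel, map_one]

instance golfGroup : Group (Hs χ) := Group.ofLeftAxioms
  (fun x y z => by
    ext <;> simp only [mul_def, mul_inv, map_mul]
    · ring
    · ring
    · linear_combination (y.u * χ y.i⁻¹ * z.w) * chi (χ := χ) x.i
    · exact mul_assoc _ _ _)
  (fun x => by ext <;> simp [mul_def, one_def])
  (fun x => by
    ext <;> simp only [mul_def, one_def, inv_def, inv_inv]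
    · ring
    · ring
    · linear_combination (-x.u * x.w) * chi (χ := χ) x.i
    · exact inv_mul_cancel _)

instance golfFinite [Finite C] : Finite (Hs χ) :=
  Finite.of_injective (fun x : Hs χ => (x.u, x.w, x.c, x.i)) fun x y h => by
    simp only [Prod.mk.injEq] at h; exact Hs.ext h.1 h.2.1 h.2.2.1 h.2.2.2

end Hs

theorem exists_model (hpq : p ≠ q) (hr : 1 ≤ r) (hK : Nat.card K = p ^ a) (hζ : IsPrimitiveRoot ζ q) (σ : K →+ K)
    (hσ : ∀ x, σ (ζ * x) = ζ⁻¹ * σ x) : ∃ (G : Type u) (_ : Group G) (_ : Finite G) (P : Subgroup G) (g : G) (π : G → K),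
      Sch p (q ^ r) ζ P g π ∧ Nat.card (σ - AddMonoidHom.mulRight (σ 1)).range * p ^ a ≤ Nat.card P := by
  have := NeZero.mk (pow_ne_zero r hq.out.ne_zero)
  let C := Multiplicative (ZMod (q ^ r))
  obtain ⟨γ, hγ⟩ := IsCyclic.exists_generator (α := C)
  have oγ : orderOf γ = q ^ r := (orderOf_eq_card_of_forall_mem_zpowers hγ).trans (by simp [C])
  have h0 := hζ.ne_zero hq.out.ne_zero
  let χ : C →* K := (Units.coeHom K).comp (monoidHomOfForallMemZpowers hγ (g' := Units.mk0 ζ h0) (by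
    rw [oγ, ← orderOf_units, Units.val_mk0, ← hζ.eq_orderOf]; exact dvd_pow_self q (by omega)))
  have χ1 : χ γ = ζ := by simp [χ]
  have χ2 : χ γ⁻¹ = ζ⁻¹ := eq_inv_of_mul_eq_one_right (χ1 ▸ Hs.chi γ)
  let ι : C →* Hs χ := MonoidHom.mk' (fun i => ⟨0, 0, 0, i⟩) fun i j => by simp [Hs.mul_def]
  let B : Subgroup (Hs χ) :=
    { carrier := {x | x.i = 1 ∧ x.w = σ x.u}
      one_mem' := ⟨rfl, (map_zero σ).symm⟩
      mul_mem' := fun {x y} hx hy => by
        simp only [Set.mem_setOf_eq] at *; simp [Hs.mul_def, hx.1, hx.2, hy.1, hy.2]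
      inv_mem' := fun {x} hx => by
        simp only [Set.mem_setOf_eq] at *; simp [Hs.inv_def, hx.1, hx.2] }
  have mB : ∀ x, x ∈ B ↔ x.i = 1 ∧ x.w = σ x.u := fun _ => Iff.rfl
  have hι : ι γ = ⟨0, 0, 0, γ⟩ := rfl
  have pre : Pre ζ B (ι γ) Hs.u := by
    refine ⟨mem_normalizer_fintype fun x hx => ?_, fun x hx y hy => ?_, fun k => ⟨⟨k, σ k, 0, 1⟩, ⟨rfl, rfl⟩, rfl⟩,
      fun x hx => ?_, fun x hx h0 => ⟨fun y hy => ?_, ?_⟩⟩
    · rw [SetLike.mem_coe, mB] at hx ⊢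
      simp [hι, Hs.mul_def, Hs.inv_def, hx.1, hx.2, χ1, χ2, hσ]
    · simp [Hs.mul_def, hx.1]
    · simp [hι, Hs.mul_def, Hs.inv_def, χ1]
    · ext <;> simp [Hs.mul_def, hx.1, hx.2, h0, hy.1, add_comm]
    · ext <;> simp [hι, Hs.mul_def, hx.1, hx.2, h0]
  have pg : IsPGroup p B := IsPGroup.of_card (n := a + a) (by
    rw [pow_add, ← hK, ← Nat.card_prod]
    exact Nat.card_congr ⟨fun x => (x.1.u, x.1.c), fun x => ⟨⟨x.1, σ x.1, x.2, 1⟩, rfl, rfl⟩,
      fun x => Subtype.ext (Hs.ext rfl x.2.2.symm rfl x.2.1.symm), fun _ => rfl⟩)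
  have ord : orderOf (ι γ) = q ^ r := (orderOf_injective ι (fun _ _ h => congrArg Hs.i h) γ).trans oγ
  have md := pre.md (by rw [ord]; exact cop hpq pg r) (hζ.ne_one hq.out.one_lt)
  have le := Coprime.commutator_le_of_le_normalizer (zpowers_le.2 pre.norm)
  set R := ⁅B, zpowers (ι γ)⁆
  set Y := R ⊔ zpowers (ι γ) with hY
  let f : ULift.{u} Y →* Hs χ := Y.subtype.comp MulEquiv.ulift.toMonoidHom
  have hf : Function.Injective f := Y.subtype_injective.comp MulEquiv.ulift.injective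
  have rf : f.range = Y := by
    rw [MonoidHom.range_comp, MonoidHom.range_eq_top.2 MulEquiv.ulift.surjective, ← MonoidHom.range_eq_map, range_subtype]
  have Rf : R ≤ f.range := le_sup_left.trans rf.ge
  obtain ⟨g, hg⟩ : ι γ ∈ f.range := rf.ge (le_sup_right (a := R) (mem_zpowers _))
  refine ⟨ULift.{u} Y, inferInstance, inferInstance, R.comap f, g, _, ⟨md.comap hf Rf hg, (pg.to_le le).comap_of_injective f hf,
    by rw [← orderOf_injective f hf, hg, ord], map_injective hf ?_⟩, ?_⟩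
  · rw [Subgroup.map_sup, map_comap_eq_self Rf, MonoidHom.map_zpowers, hg, ← MonoidHom.range_eq_map, rf]
  rw [← card_map_of_injective hf, map_comap_eq_self Rf, ← hK, ← Nat.card_prod]
  choose s hs hs' using md.surj
  have m : ∀ ρ : (σ - AddMonoidHom.mulRight (σ 1)).range, (⟨0, 0, ρ, 1⟩ : Hs χ) ∈ R := by
    rintro ⟨_, v, rfl⟩
    convert cmem (hs 1) (hs v) using 1
    have e := le (hs 1)
    have e' := le (hs v)
    ext <;> simp [commutatorElement_def, Hs.mul_def, Hs.inv_def, e.1, e.2, e'.1, e'.2, hs']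
    ring
  refine Nat.card_le_card_of_injective (fun x => (⟨_, mul_mem (m x.1) (hs x.2)⟩ : R)) fun x y h => ?_
  have h := congrArg Subtype.val h
  have h2 : x.2 = y.2 := by simpa [Hs.mul_def, hs'] using congrArg Hs.u h
  simp only [h2, mul_left_inj] at h
  exact Prod.ext (Subtype.ext (congrArg Hs.c h)) h2

theorem exists_max [CharP K p] (hpq : p ≠ q) (hr : 1 ≤ r) (hK : Nat.card K = p ^ a) (ha : a = orderOf (p : ZMod q))
    (ha0 : a ≠ 0) (hζ : IsPrimitiveRoot ζ q) :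
    ∃ (G : Type u) (_ : Group G) (_ : Finite G) (P : Subgroup G) (g : G) (π : G → K),
      Sch p (q ^ r) ζ P g π ∧ p ^ (if a % 2 = 1 then a else 3 * a / 2) ≤ Nat.card P := by
  split_ifs with ho
  · obtain ⟨G, _, _, P, g, π, h, c⟩ := exists_model.{u} hpq hr hK hζ 0 (by simp)
    exact ⟨G, _, inferInstance, P, g, π, h, le_trans (Nat.le_mul_of_pos_left _ Nat.card_pos) c⟩
  obtain ⟨b, rfl⟩ : ∃ b, a = b + b := ⟨a / 2, by omega⟩
  have h1 : (p : ZMod q) ^ b = -1 := (mul_self_eq_one_iff.1 (by rw [← pow_add, ha, pow_orderOf_eq_one])).resolve_left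
    (pow_ne_one_of_lt_orderOf (by omega) (by omega))
  have h2 : ζ ^ p ^ b = ζ⁻¹ := eq_inv_of_mul_eq_one_left (by
    rw [← pow_succ, hζ.pow_eq_one_iff_dvd, ← ZMod.natCast_eq_zero_iff]; push_cast; rw [h1, neg_add_cancel])
  obtain ⟨G, _, _, P, g, π, h, c⟩ := exists_model.{u} hpq hr hK hζ (iterateFrobenius K p b).toAddMonoidHom
    (fun x => by simp [iterateFrobenius_def, mul_pow, h2])
  refine ⟨G, _, inferInstance, P, g, π, h, le_trans ?_ c⟩
  set ψ := (iterateFrobenius K p b).toAddMonoidHom - AddMonoidHom.mulRight ((iterateFrobenius K p b).toAddMonoidHom 1)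
  have k : Nat.card ψ.ker ≤ p ^ b := by
    classical
    have := Fintype.ofFinite K
    have b1 : 1 < p ^ b := Nat.one_lt_pow (by omega) hp.out.one_lt
    have := card_le_degree_of_subset_roots (p := (X ^ p ^ b - X : K[X])) (Z := (ψ.ker : Set K).toFinset) fun x hx => by
      have : ψ x = 0 := by simpa using hx
      rw [mem_roots (FiniteField.X_pow_card_sub_X_ne_zero K b1)]
      simpa [ψ, iterateFrobenius_def] using this
    rwa [FiniteField.X_pow_card_sub_X_natDegree_eq K b1, Set.toFinset_card, ← Nat.card_eq_fintype_card] at this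
  have e := ψ.ker.card_mul_index
  rw [AddSubgroup.index_ker, hK, pow_add] at e
  rw [show 3 * (b + b) / 2 = b + (b + b) by omega, pow_add]
  refine Nat.mul_le_mul_right _ (Nat.le_of_mul_le_mul_left (c := p ^ b) ?_ (pow_pos hp.out.pos b))
  rw [← e]
  exact Nat.mul_le_mul_right _ k

end Cfsg.Lib.Golf
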