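import Cfsg.Agent.Lib.Solv.SchmidtSE
import Cfsg.Agent.Lib.Coprime.Generation
import Cfsg.Agent.Lib.PLocal.Stable

/-! Groups whose Sylow `p`-subgroup looks like that of a minimal non-nilpotent group. -/

set_option autoImplicit false

namespace Cfsg.Lib.Solv

open Subgroup Cfsg.Lib.Core
open scoped commutatorElement

variable {G : Type*} [Group G] [Finite G] {p : ℕ} [hp : Fact p.Prime]

local notation "𝐂(" S ")" => centralizer ((S : Subgroup _) : Set _)
local notation "𝐍(" S ")" => normalizer ((S : Subgroup _) : Set _)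

theorem SE.false_of {S U B D : Subgroup G} {a : G} [U.Normal] (h : SE p S) (hp3 : p ≤ 3)
    (hS : IsPGroup p S) (hC : 𝐂(U) ≤ U) (hUB : U ≤ B) (hBS : B ≤ S) (ha : a ∈ S)
    (hSB : S ≤ B ⊔ zpowers a) (hUD : U ≤ D) (hDB : ⁅D, B⁆ ≤ U) (hDa : ⁅D, zpowers a⁆ ≤ D)
    (hn : ¬ ⁅D, zpowers a⁆ ≤ U) (hcop : (U.relIndex D).Coprime p) : False := by
  have hUS := hUB.trans hBS
  have hA : zpowers a ≤ S := zpowers_le.2 ha
  obtain ⟨V, hV⟩ : ∃ V, V = U ⊓ 𝐂(U) := ⟨_, rfl⟩
  haveI : V.Normal := hV ▸ inferInstance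
  have hVU : V ≤ U := hV ▸ inf_le_left
  have hUV : U ≤ 𝐂(V) := le_centralizer_iff.1 (hV ▸ inf_le_right)
  obtain ⟨Z, hZ⟩ : ∃ Z, Z = S ⊓ 𝐂(S) := ⟨_, rfl⟩
  have hZS : Z ≤ 𝐂(S) := hZ ▸ inf_le_right
  have hZU : Z ≤ 𝐂(U) := hZS.trans (centralizer_le hUS)
  have hZV : Z ≤ V := hV ▸ le_inf (hZU.trans hC) hZU
  have hSS : ⁅S, S⁆ ≤ Z := hZ ▸ le_inf (Coprime.commutator_le_of_le_normalizer le_normalizer)
    (commutator_le.2 h.comm)
  obtain ⟨D1, hD1⟩ : ∃ D1, D1 = ⁅D, zpowers a⁆ ⊔ U := ⟨_, rfl⟩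
  have h1 : D1 ≤ D := hD1 ▸ sup_le hDa hUD
  have h2 : U ≤ D1 := hD1 ▸ le_sup_right
  have cen : ∀ N ≤ V, D ≤ 𝐍(N) → N ≤ 𝐂(zpowers a) → D1 ≤ 𝐂(N) := fun N e1 e2 e3 => by
    rw [hD1]
    refine sup_le ((commutator_mono le_rfl (le_centralizer_iff.1 e3)).trans ?_)
      (hUV.trans (centralizer_le e1))
    rw [commutator_comm]
    exact Coprime.commutator_le_of_le_normalizer (le_normalizer_centralizer e2)
  have hrel : (U.relIndex D1).Coprime p := hcop.coprime_dvd_left
    (Coprime.relIndex_dvd_relIndex_of_le_normalizer h1 le_normalizer_of_normal)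
  obtain ⟨E, -, -, h3, h4⟩ := Coprime.exists_complement h2 le_normalizer_of_normal
    (coprime_card_of_isPGroup (hS.to_le hUS) hrel)
  have hEV : (Nat.card E).Coprime (Nat.card V) :=
    (coprime_card_of_isPGroup (hS.to_le (hVU.trans hUS)) (h4 ▸ hrel)).symm
  have hED : E ≤ D1 := h3 ▸ le_sup_right
  have h5 : ⁅D1, V⁆ ≤ ⁅V, E⁆ := by
    rw [commutator_comm V]
    refine Coprime.commutator_le_of_subset_mul_centralizer fun k hk => ?_
    rw [← h3, sup_comm] at hk
    obtain ⟨e, he, u, hu, rfl⟩ := (mem_sup_of_le_normalizer_right le_normalizer_of_normal).1 hk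
    exact ⟨e, he, by simpa using hUV hu⟩
  have hWD : ∀ N ≤ ⁅D1, V⁆, D1 ≤ 𝐂(N) → N = ⊥ := fun N e1 e2 => by
    rw [eq_bot_iff, ← Coprime.centralizer_inf_commutator_eq_bot
      (le_centralizer_iff_isMulCommutative.1 (hVU.trans hUV)) le_normalizer_of_normal hEV]
    exact le_inf (le_centralizer_iff.1 (hED.trans e2)) (e1.trans h5)
  have hWV : ⁅D1, V⁆ ≤ V := commutator_le_right _ _
  have hDW : D ≤ 𝐍(⁅D1, V⁆) := le_normalizer_commutator (hD1 ▸ le_normalizer_sup
    (normalizer_commutator_ge_left _ _) le_normalizer_of_normal) le_normalizer_of_normal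
  have hAW : zpowers a ≤ 𝐍(⁅D1, V⁆) := le_normalizer_commutator (hD1 ▸ le_normalizer_sup
    (normalizer_commutator_ge_right _ _) le_normalizer_of_normal) le_normalizer_of_normal
  have h6 : ¬ ⁅D1, V⁆ ≤ 𝐂(zpowers a) := fun e => by
    have e1 := commutator_eq_bot_iff_le_centralizer.1 (hWD _ le_rfl (cen _ hWV hDW e))
    haveI := Normal.map inferInstance _ (QuotientGroup.mk'_surjective V) (H := U)
    have e2 : S ≤ (𝐂(U.map (QuotientGroup.mk' V))).comap (QuotientGroup.mk' V) :=
      map_le_iff_le_comap.1 (commutator_eq_bot_iff_le_centralizer.1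
        ((commutator_le_iff_map_mk' _ _ _).1 ((commutator_mono le_rfl hUS).trans (hSS.trans hZV))))
    have e3 : D1 ≤ (𝐂(U.map (QuotientGroup.mk' V))).comap (QuotientGroup.mk' V) := hD1 ▸
      sup_le ((commutator_mono le_rfl (hA.trans e2)).trans (commutator_le_right _ _)) (hUS.trans e2)
    have e4 : ⁅U, E⁆ ≤ V := by
      rw [commutator_comm]
      exact (commutator_le_iff_map_mk' _ _ _).2 (commutator_eq_bot_iff_le_centralizer.2
        (map_le_iff_le_comap.2 (hED.trans e3)))
    have e5 := (Coprime.le_centralizer_of_commutator_le e4 (hED.trans e1) hEV).trans hC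
    exact hn (le_sup_left.trans (hD1.ge.trans (h3.ge.trans (sup_le le_rfl e5))))
  have hDB' : D ≤ 𝐍(B) := Coprime.le_normalizer_of_commutator_le le_rfl
    (commutator_comm D B ▸ hDB.trans hUB)
  have hZA : Z ≤ 𝐂(zpowers a) := hZS.trans (centralizer_le hA)
  have h7 : ⁅D1, V⁆ ≤ 𝐂(B) := commutator_eq_bot_iff_le_centralizer.1
    (commutator_commutator_eq_bot_of_rotate
      (commutator_eq_bot_iff_le_centralizer.2 (le_centralizer_iff.1 (cen _ (commutator_le_left _ _)
        (le_normalizer_commutator le_normalizer_of_normal hDB')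
        ((commutator_mono (hVU.trans hUS) hBS).trans (hSS.trans hZA)))))
      (commutator_eq_bot_iff_le_centralizer.2 ((commutator_mono le_rfl h1).trans
        ((commutator_comm D B ▸ hDB).trans hUV))))
  obtain ⟨w, hw, hwa⟩ := SetLike.not_le_iff_exists.1 h6
  have hwU := hVU (hWV hw)
  have hwS := hUS hwU
  have hw' : w ∉ 𝐂(S) := fun e => hwa (centralizer_le hA e)
  have hc1 : ⁅w, a⁆ ≠ 1 := fun e => hwa (by
    rw [Core.centralizer_zpowers, mem_centralizer_singleton_iff]
    exact commutatorElement_eq_one_iff_mul_comm.1 e)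
  have h8 : Z = zpowers ⁅w, a⁆ := by
    refine le_antisymm (fun z hz => ?_) (zpowers_le.2 (hSS (commutator_mem_commutator hwS ha)))
    obtain ⟨y, hy, rfl⟩ := h.cam w hwS hw' z (hZ ▸ hz).1 (hZS hz)
    have e1 : B ⊔ zpowers a ≤ ((zpowers ⁅w, a⁆).comap (commHom h.comm hwS)).map S.subtype :=
      sup_le (fun b hb => ⟨⟨b, hBS hb⟩, by
        change ⁅w, b⁆ ∈ zpowers ⁅w, a⁆
        rw [commutatorElement_eq_one_iff_mul_comm.2 (h7 hw b hb).symm]
        exact one_mem _, rfl⟩) (zpowers_le.2 ⟨⟨a, ha⟩, mem_zpowers _, rfl⟩)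
    obtain ⟨y', hy', rfl⟩ := e1 (hSB hy)
    exact hy'
  have hZW : Z ≤ ⁅D1, V⁆ := by
    rw [h8, zpowers_le, commutatorElement_def, mul_assoc, mul_assoc, ← mul_assoc a]
    exact mul_mem hw (Coprime.conj_mem_of_mem_normalizer (hAW (mem_zpowers a)) (inv_mem hw))
  have kill : ∀ N ≤ Z, D ≤ 𝐍(N) → N = ⊥ := fun N e1 e2 =>
    hWD N (e1.trans hZW) (cen N (e1.trans hZV) e2 (e1.trans hZA))
  have hZp : Nat.card Z = p := by
    rw [h8, Nat.card_zpowers]
    exact orderOf_eq_prime (SE.pow_eq_one h.comm h.pow hwS ha) hc1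
  have hUU : U ≤ 𝐂(U) := commutator_eq_bot_iff_le_centralizer.1
    (kill _ ((commutator_mono hUS hUS).trans hSS) le_normalizer_of_normal)
  have hBU : B ≤ U := (le_centralizer_iff.1 (commutator_eq_bot_iff_le_centralizer.1
    (kill _ ((commutator_mono hUS hBS).trans hSS)
      (le_normalizer_commutator le_normalizer_of_normal hDB')))).trans hC
  have hSU : S = zpowers a ⊔ U :=
    le_antisymm (hSB.trans (sup_le (hBU.trans le_sup_right) le_sup_left)) (sup_le hA hUS)
  have h9 : U.relIndex S = p := by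
    rw [← card_map_mk'_eq_relIndex, hSU, map_mk'_sup, MonoidHom.map_zpowers, Nat.card_zpowers]
    refine orderOf_eq_prime ?_ fun e => hc1 ?_
    · rw [← map_pow]
      exact (QuotientGroup.eq_one_iff _).2 (hC (centralizer_le hUS (h.pow a ha)))
    · exact commutatorElement_eq_one_iff_mul_comm.2 (hUU ((QuotientGroup.eq_one_iff _).1 e) w hwU)
  have h10 : Nat.card U = p * p := by
    have e1 : ((commHom h.comm ha).comp (inclusion hUS)).ker = Z.subgroupOf U := by
      ext u
      rw [MonoidHom.mem_ker, mem_subgroupOf]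
      change ⁅a, (u : G)⁆ = 1 ↔ _
      rw [commutatorElement_eq_one_iff_mul_comm]
      refine ⟨fun e => hZ ▸ ⟨hUS u.2, ?_⟩, fun e => hZS e a ha⟩
      rw [hSU, centralizer_sup, Core.centralizer_zpowers]
      exact ⟨mem_centralizer_singleton_iff.2 e.symm, hUU u.2⟩
    have e2 : ((commHom h.comm ha).comp (inclusion hUS)).range = Z := by
      refine le_antisymm ?_ ?_
      · rintro _ ⟨u, rfl⟩
        exact hSS (commutator_mem_commutator ha (hUS u.2))
      · rw [h8, zpowers_le, ← commutatorElement_inv]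
        exact inv_mem ⟨⟨w, hwU⟩, rfl⟩
    rw [← ((commHom h.comm ha).comp (inclusion hUS)).ker.card_mul_index, index_ker, e1, e2,
      card_subgroupOf_of_le (hZV.trans hVU), hZp]
  refine hw' (h.small hp3 ?_ (hZ ▸ hZp) w hwS ?_)
  · rw [← card_mul_relIndex hUS, h9, h10]
    ring
  · have e1 : normalClosure {w ^ p} ≤ Z := by
      rw [normalClosure, closure_le]
      intro x hx
      obtain ⟨_, rfl, e⟩ := Group.mem_conjugatesOfSet_iff.1 hx
      obtain ⟨g, rfl⟩ := isConj_iff.1 e
      have e2 := hUS (Normal.conj_mem inferInstance w hwU g)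
      rw [← conj_pow, hZ]
      exact ⟨pow_mem e2 p, h.pow _ e2⟩
    exact mem_bot.1 (kill _ e1 le_normalizer_of_normal ▸ subset_normalClosure rfl)

theorem SE.le_pCore (hG : IsPSolvable p G) (h0 : pPrimeCore p G = ⊥) (S : Sylow p G)
    (h : SE p (S : Subgroup G)) : (S : Subgroup G) ≤ pCore p G := by
  have hC := centralizer_pCore_le_of_isPSolvable hG h0
  have hUS := pCore_le_sylow S
  by_cases hp3 : p ≤ 3
  swap
  · refine (PLocal.secStable_of_isPSolvable (by omega) hG (by omega)).normalStable.le_pCore hC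
      S.isPGroup' (commutator_eq_bot_iff_le_centralizer.2 ?_)
    exact (commutator_mono hUS le_rfl).trans (commutator_le.2 h.comm)
  obtain ⟨U, hU⟩ : ∃ U, U = pCore p G := ⟨_, rfl⟩
  have hq : ∀ [U.Normal], pCore p (G ⧸ U) = ⊥ := by
    subst hU
    exact fun {_} => pCore_quotient_pCore p G
  rw [← hU] at hC hUS ⊢
  haveI : U.Normal := hU ▸ inferInstance
  by_contra hne
  have hab : IsMulCommutative ((S : Subgroup G).map (QuotientGroup.mk' U)) :=
    le_centralizer_iff_isMulCommutative.1 (commutator_eq_bot_iff_le_centralizer.1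
      ((commutator_le_iff_map_mk' _ _ _).1
        ((commutator_le.2 h.comm).trans ((centralizer_le hUS).trans hC))))
  have hcop := coprime_card_of_isPGroup (S.isPGroup'.map (QuotientGroup.mk' U))
    (pPrimeCore_coprime p (G ⧸ U))
  have h1 : ¬ pPrimeCore p (G ⧸ U) ≤ 𝐂((S : Subgroup G).map (QuotientGroup.mk' U)) := fun e => by
    have e1 := (le_centralizer_iff.1 e).trans
      (centralizer_pPrimeCore_le_of_isPSolvable (isPSolvable_quotient hG U) hq)
    exact hne ((map_mk'_eq_bot_iff U _).1 (by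
      rw [← Coprime.inf_eq_bot_of_coprime' hcop, inf_eq_left.2 e1]))
  have h2 := mt (Coprime.le_of_forall_cocyclic hab le_normalizer_of_normal hcop) h1
  push Not at h2
  obtain ⟨B, hB, ⟨_, ⟨a, ha, rfl⟩, e⟩, h3⟩ := h2
  have hSB : (S : Subgroup G).map (QuotientGroup.mk' U) ≤ 𝐍(B) :=
    (le_centralizer_iff.1 (hB.trans (le_centralizer_iff_isMulCommutative.2 hab))).trans
      (centralizer_le_normalizer _)
  refine h.false_of (B := B.comap (QuotientGroup.mk' U))
    (D := (pPrimeCore p (G ⧸ U) ⊓ 𝐂(B)).comap (QuotientGroup.mk' U)) hp3 S.isPGroup' hC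
    (le_comap_mk'' U B) ((comap_mono hB).trans (by rw [comap_map_mk', sup_eq_left.2 hUS])) ha ?_
    (le_comap_mk'' U _) ?_ ?_ (fun e' => h3 ?_) ?_
  · refine le_trans ?_ (sup_le le_rfl ((le_comap_mk'' U B).trans le_sup_left))
    rw [← map_mk'_le_map_mk'_iff, Subgroup.map_sup, map_comap_mk', MonoidHom.map_zpowers, e]
  · rw [commutator_le_iff_map_mk', map_comap_mk', map_comap_mk', commutator_eq_bot_iff_le_centralizer]
    exact inf_le_right
  · rw [← map_le_iff_le_comap, map_commutator, map_comap_mk']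
    exact Coprime.commutator_le_of_le_normalizer ((map_mono (zpowers_le.2 ha)).trans
      (le_normalizer_inf le_normalizer_of_normal (le_normalizer_centralizer hSB)))
  · rw [commutator_le_iff_map_mk', map_comap_mk', MonoidHom.map_zpowers,
      commutator_eq_bot_iff_le_centralizer] at e'
    rw [← e, centralizer_sup]
    exact le_inf inf_le_right e'
  · rw [← card_map_mk'_eq_relIndex, map_comap_mk']
    exact coprime_of_le inf_le_left (pPrimeCore_coprime p _)

end Cfsg.Lib.Solv
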