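import Cfsg.Agent.Lib.Solv.Schmidt
import Cfsg.Agent.Lib.Coprime.Gaschutz
import Cfsg.Agent.Lib.Coprime.Nilpotent
import Cfsg.Agent.Lib.PGroup.Frattini
import Cfsg.Agent.Lib.PGroup.Commutator
import Cfsg.Agent.Lib.Transfer.Criteria

/-! The normal Sylow subgroup of a minimal non-nilpotent group. -/

set_option autoImplicit false

namespace Cfsg.Lib.Solv

open Subgroup Cfsg.Lib.Core
open scoped commutatorElement

variable {G : Type*} [Group G] {p : ℕ}

local notation "𝐂(" S ")" => centralizer ((S : Subgroup _) : Set _)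
local notation "𝐍(" S ")" => normalizer ((S : Subgroup _) : Set _)

/-- Properties of the normal Sylow subgroup of a minimal non-nilpotent group. -/
structure SE (p : ℕ) (S : Subgroup G) : Prop where
  comm : ∀ x ∈ S, ∀ y ∈ S, ⁅x, y⁆ ∈ 𝐂(S)
  pow : ∀ x ∈ S, x ^ p ∈ 𝐂(S)
  cam : ∀ x ∈ S, x ∉ 𝐂(S) → ∀ z ∈ S, z ∈ 𝐂(S) → ∃ y ∈ S, ⁅x, y⁆ = z
  small : p ≤ 3 → Nat.card S = p ^ 3 → Nat.card ↥(S ⊓ 𝐂(S)) = p → ∀ w ∈ S, w ^ p = 1 → w ∈ 𝐂(S)

theorem mem_cent_iff_center {S : Subgroup G} (x : S) : (x : G) ∈ 𝐂(S) ↔ x ∈ center S := by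
  rw [mem_center_iff]
  exact ⟨fun h y => Subtype.ext (h y y.2), fun h y hy => congrArg Subtype.val (h ⟨y, hy⟩)⟩

theorem SE.of_equiv {G' : Type*} [Group G'] {S : Subgroup G} {T : Subgroup G'} (h : SE p S)
    (e : T ≃* S) : SE p T := by
  have hc : ∀ x : T, (x : G') ∈ 𝐂(T) ↔ (e x : G) ∈ 𝐂(S) := fun x => by
    rw [mem_cent_iff_center, mem_cent_iff_center, mem_center_iff, mem_center_iff]
    exact ⟨fun h y => by rw [← e.apply_symm_apply y, ← map_mul, h, map_mul],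
      fun h y => e.injective (by rw [map_mul, map_mul, h])⟩
  refine ⟨fun x hx y hy => (hc ⁅(⟨x, hx⟩ : T), (⟨y, hy⟩ : T)⁆).2 ?_, fun x hx => (hc (⟨x, hx⟩ ^ p)).2 ?_,
    fun x hx hx' z hz hz' => ?_, fun h1 h2 h3 w hw hw' => (hc ⟨w, hw⟩).2 ?_⟩
  · rw [map_commutatorElement]
    exact h.comm _ (e _).2 _ (e _).2
  · rw [map_pow]
    exact h.pow _ (e _).2
  · obtain ⟨y, hy, h1⟩ := h.cam _ (e ⟨x, hx⟩).2 (fun h => hx' ((hc ⟨x, hx⟩).2 h)) _ (e ⟨z, hz⟩).2
      ((hc ⟨z, hz⟩).1 hz')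
    refine ⟨e.symm ⟨y, hy⟩, (e.symm _).2, ?_⟩
    have : ⁅(⟨x, hx⟩ : T), e.symm ⟨y, hy⟩⁆ = ⟨z, hz⟩ := e.injective (by
      rw [map_commutatorElement, e.apply_symm_apply]; exact Subtype.ext h1)
    exact congrArg Subtype.val this
  · refine h.small h1 (Nat.card_congr e.toEquiv ▸ h2) ?_ _ (e _).2 ?_
    · rw [← map_subtype_center, Core.card_map_subtype] at h3 ⊢
      rw [← h3]
      exact (Nat.card_congr (centerCongr e).toEquiv).symm
    · rw [← coe_pow, ← map_pow, show (⟨w, hw⟩ : T) ^ p = 1 from Subtype.ext hw', map_one, coe_one]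

/-- The commutator with a fixed element of a group of class two. -/
def commHom {S : Subgroup G} (h : ∀ x ∈ S, ∀ y ∈ S, ⁅x, y⁆ ∈ 𝐂(S)) {w : G} (hw : w ∈ S) : S →* G :=
  MonoidHom.mk' (fun y => ⁅w, (y : G)⁆) fun y z => by
    rw [coe_mul, commutatorElement_mul_right_eq_mul_conj, mul_assoc, mul_assoc,
      ← mul_assoc (y : G), h w hw z z.2 y y.2, mul_inv_cancel_right]

theorem SE.pow_eq_one {S : Subgroup G} (h1 : ∀ x ∈ S, ∀ y ∈ S, ⁅x, y⁆ ∈ 𝐂(S))
    (h2 : ∀ x ∈ S, x ^ p ∈ 𝐂(S)) {x y : G} (hx : x ∈ S) (hy : y ∈ S) : ⁅x, y⁆ ^ p = 1 := by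
  rw [← PGroup.commutator_pow_left_of_commute (h1 x hx y hy x hx), commutatorElement_eq_one_iff_mul_comm]
  exact (h2 x hx y hy).symm

theorem zpowers_le_normalizer [Finite G] {g : G} {A : Subgroup G} {s : Set G} (hA : A = closure s)
    (h : ∀ a ∈ s, g * a * g⁻¹ ∈ A) : zpowers g ≤ 𝐍(A) := by
  refine zpowers_le.2 (mem_normalizer_of_map_conj_le ?_)
  conv_lhs => rw [hA]
  rw [MonoidHom.map_closure, closure_le]
  rintro _ ⟨a, ha, rfl⟩
  exact h a ha

theorem se_of_schmidt [Finite G] [hp : Fact p.Prime] (hG : IsMinimalNonNilpotent G) {q : ℕ}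
    [hq : Fact q.Prime] (hpq : q ≠ p) {P : Subgroup G} [P.Normal] (hP : IsPGroup p P) {g : G} {k : ℕ}
    (hk : g ^ q ^ k = 1) (hsup : P ⊔ zpowers g = ⊤) (hg : g ∉ 𝐂(P)) : SE p P := by
  have hT := isPGroup_zpowers hk
  have hcop : (Nat.card (zpowers g)).Coprime (Nat.card P) :=
    IsPGroup.coprime_card_of_ne q p hpq _ _ hT hP
  have hd : zpowers g ⊓ P = ⊥ := Coprime.inf_eq_bot_of_coprime' hcop
  have k1 : ∀ A < P, zpowers g ≤ 𝐍(A) → A ≤ 𝐂(zpowers g) := fun A hA hn => by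
    refine le_centralizer_of_coprime_of_le (hG.2 (A ⊔ zpowers g) fun e => hA.ne ?_) le_sup_left
      le_sup_right (hcop.symm.coprime_dvd_left (card_dvd_of_le hA.le))
    rw [← top_inf_eq P, ← e, sup_inf_of_le_normalizer' hA.le hn, hd, sup_bot_eq]
  have hPg : ⁅P, zpowers g⁆ = P := by
    by_contra e
    have := k1 _ (lt_of_le_of_ne (commutator_le_left _ _) e) (le_normalizer_commutator
      le_normalizer_of_normal le_normalizer)
    exact hg (Coprime.le_centralizer_of_commutator_le le_rfl (le_centralizer_iff.1 this)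
      (hcop.coprime_dvd_right (card_dvd_of_le (commutator_le_left _ _))) (mem_zpowers g))
  have k2 : ∀ A < P, zpowers g ≤ 𝐍(A) → P ≤ 𝐍(A) → A ≤ 𝐂(P) := fun A hA h1 h2 =>
    le_centralizer_iff.1 (Coprime.le_centralizer_of_normal_of_fixed hPg (k1 A hA h1) h2)
  have hP0 : P ≠ ⊥ := by
    rintro rfl
    exact hg fun x hx => by rw [mem_bot.1 hx, one_mul, mul_one]
  have hcomm : ⁅P, P⁆ ≤ 𝐂(P) := k2 _ (commutator_lt_of_isSolvable (Core.isSolvable_of_isPGroup hP) hP0)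
    le_normalizer_of_normal le_normalizer_of_normal
  have c1 : ∀ x ∈ P, ∀ y ∈ P, ⁅x, y⁆ ∈ 𝐂(P) := fun x hx y hy =>
    hcomm (commutator_mem_commutator hx hy)
  have c2 : ∀ x ∈ P, x ^ p ∈ 𝐂(P) := fun x hx =>
    k2 _ (frattiniOf_lt hP0) le_normalizer_of_normal le_normalizer_of_normal
      (PGroup.pow_mem_map_subtype_frattini hP hx)
  have k3 : P ⊓ 𝐂(zpowers g) ≤ ⁅P, P⁆ := fun z hz => by
    have h1 := Coprime.centralizer_inf_commutator_eq_bot
      (A := (zpowers g).map (QuotientGroup.mk' ⁅P, P⁆)) (V := P.map (QuotientGroup.mk' ⁅P, P⁆))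
      (le_centralizer_iff_isMulCommutative.1 (commutator_eq_bot_iff_le_centralizer.1
        ((commutator_le_iff_map_mk' _ _ _).1 le_rfl)))
      (haveI := Normal.map inferInstance _ (QuotientGroup.mk'_surjective ⁅P, P⁆) (H := P);
        le_normalizer_of_normal)
      ((hcop.coprime_dvd_left (card_map_dvd _ _)).coprime_dvd_right (card_map_dvd _ _))
    rw [← map_commutator, hPg] at h1
    have h2 : QuotientGroup.mk' ⁅P, P⁆ z ∈ (⊥ : Subgroup _) := h1 ▸ ⟨by
      rintro _ ⟨t, ht, rfl⟩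
      rw [← map_mul, hz.2 t ht, map_mul], mem_map_of_mem _ hz.1⟩
    exact (QuotientGroup.eq_one_iff z).1 (mem_bot.1 h2)
  have k4 : ∀ x ∈ P, x ∉ 𝐂(P) → P ⊓ 𝐂(P) ≤ 𝐂(zpowers g) := fun x hx hx' =>
    k1 _ (lt_of_le_of_ne inf_le_left fun e => hx' (e.ge hx).2) le_normalizer_of_normal
  have c3 : ∀ x ∈ P, x ∉ 𝐂(P) → ∀ z ∈ P, z ∈ 𝐂(P) → ∃ y ∈ P, ⁅x, y⁆ = z := fun x hx hx' z hz hz' => by
    obtain ⟨N, hN⟩ : ∃ N, N = (commHom c1 hx).range := ⟨_, rfl⟩
    have hN1 : N ≤ P ⊓ 𝐂(P) := by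
      rintro _ h
      rw [hN] at h
      obtain ⟨y, rfl⟩ := h
      exact ⟨commutator_le_left P P (commutator_mem_commutator hx y.2), c1 x hx y y.2⟩
    haveI : N.Normal := normal_of_top_le_normalizer (hsup.ge.trans (sup_le
      ((le_centralizer_iff.1 (hN1.trans inf_le_right)).trans (centralizer_le_normalizer _))
      ((le_centralizer_iff.1 (hN1.trans (k4 x hx hx'))).trans (centralizer_le_normalizer _))))
    haveI := Normal.map inferInstance _ (QuotientGroup.mk'_surjective N) (H := P)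
    have h1 : P ≤ (𝐂(P.map (QuotientGroup.mk' N))).comap (QuotientGroup.mk' N) := by
      by_contra e
      refine hx' (k2 _ (lt_of_le_of_ne inf_le_left fun e' => e (inf_eq_left.1 e'))
        le_normalizer_of_normal le_normalizer_of_normal ⟨hx, ?_⟩)
      rintro _ ⟨y, hy, rfl⟩
      rw [eq_comm, ← commutatorElement_eq_one_iff_mul_comm, ← map_commutatorElement]
      exact (QuotientGroup.eq_one_iff _).2 (hN ▸ ⟨⟨y, hy⟩, rfl⟩)
    have h2 : ⁅P, P⁆ ≤ N := (commutator_le_iff_map_mk' _ _ _).2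
      (commutator_eq_bot_iff_le_centralizer.2 (map_le_iff_le_comap.2 h1))
    have h3 := h2 (k3 ⟨hz, k4 x hx hx' ⟨hz, hz'⟩⟩)
    rw [hN] at h3
    obtain ⟨y, hy⟩ := h3
    exact ⟨y, y.2, hy⟩
  refine ⟨c1, c2, c3, fun h3 hc hZ w hw hwp => ?_⟩
  by_contra hw'
  have hZT := k4 w hw hw'
  have k5 : ∀ s : Set G, s ⊆ P → (∀ a ∈ s, ∀ b ∈ s, a * b = b * a) →
      (∀ a ∈ s, g * a * g⁻¹ ∈ closure (↑(P ⊓ 𝐂(P)) ∪ s)) → ∀ a ∈ s, a ∈ 𝐂(P) := by
    intro s hs hc hn a ha
    have h1 : closure (↑(P ⊓ 𝐂(P)) ∪ s) ≤ P := (closure_le _).2 (Set.union_subset inf_le_left hs)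
    have h2 : P ⊓ 𝐂(P) ≤ closure (↑(P ⊓ 𝐂(P)) ∪ s) := fun x hx => Subgroup.subset_closure (Or.inl hx)
    refine k2 _ (lt_of_le_of_ne h1 fun e => hw' ?_) (zpowers_le_normalizer rfl ?_)
      (Coprime.le_normalizer_of_commutator_le h1 ((le_inf (commutator_le_left _ _) hcomm).trans h2))
      (Subgroup.subset_closure (Or.inr ha))
    · have h4 : closure (↑(P ⊓ 𝐂(P)) ∪ s) ≤ 𝐂(closure (↑(P ⊓ 𝐂(P)) ∪ s)) := by
        rw [closure_le, centralizer_closure]
        rintro x (hx | hx) y (hy | hy)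
        · exact hx.2 y hy.1
        · exact hx.2 y (hs hy)
        · exact (hy.2 x (hs hx)).symm
        · exact hc y hy x hx
      rw [e] at h4
      exact h4 hw
    · rintro x (hx | hx)
      · rw [hZT hx g (mem_zpowers g), mul_inv_cancel_right]
        exact h2 hx
      · exact hn x hx
  have k6 : ∀ u ∈ P, u⁻¹ * (g * u * g⁻¹) ∈ 𝐂(P) → u ∈ 𝐂(P) := fun u hu h =>
    k5 {u} (by simpa using hu) (by simp) (by
      intro a ha
      rw [Set.mem_singleton_iff.1 ha, ← mul_inv_cancel_left u (g * u * g⁻¹)]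
      exact mul_mem (Subgroup.subset_closure (Or.inr rfl)) (Subgroup.subset_closure (Or.inl
        (mem_inf.2 ⟨mul_mem (inv_mem hu) (Normal.conj_mem inferInstance u hu g), h⟩)))) u rfl
  have hgq : g ^ q ∈ 𝐂(P) := by
    refine le_centralizer_of_coprime_of_le (hG.2 (P ⊔ zpowers (g ^ q)) fun e => hg ?_) le_sup_right
      le_sup_left (hcop.coprime_dvd_left (card_dvd_of_le (zpowers_le.2 (pow_mem (mem_zpowers g) q))))
      (mem_zpowers _)
    have h1 : g ∈ zpowers (g ^ q) := by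
      have h2 := sup_inf_of_le_normalizer (N := P) (zpowers_le.2 (pow_mem (mem_zpowers g) q))
        le_normalizer_of_normal
      rw [sup_comm, e, top_inf_eq, inf_comm, hd, sup_bot_eq] at h2
      exact h2 ▸ mem_zpowers g
    rw [Transfer.eq_one_of_pow_pow_eq_one_of_coprime hk (Nat.coprime_comm.1 (mem_zpowers_pow_iff.1 h1))]
    exact one_mem _
  have hmod := Transfer.card_modEq_card_inf_centralizer hT (T := P) le_normalizer_of_normal
  rw [le_antisymm (le_inf inf_le_left (k3.trans hcomm)) (le_inf inf_le_left hZT), hc, hZ] at hmod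
  have hb : g * w * g⁻¹ ∈ P := Normal.conj_mem inferInstance w hw g
  have hp2 := hp.out.two_le
  obtain rfl | rfl : p = 2 ∨ p = 3 := by omega
  · obtain rfl : q = 3 := by
      have h1 : q ∣ 2 * 3 := (Nat.modEq_iff_dvd' (by norm_num)).1 hmod.symm
      exact (Nat.prime_dvd_prime_iff_eq hq.out Nat.prime_three).1 (((Nat.Prime.dvd_mul hq.out).1
        h1).resolve_left fun e => hpq ((Nat.prime_dvd_prime_iff_eq hq.out Nat.prime_two).1 e))
    obtain ⟨b, hb'⟩ : ∃ b, b = g * w * g⁻¹ := ⟨_, rfl⟩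
    obtain ⟨c, hc'⟩ : ∃ c, c = g * b * g⁻¹ := ⟨_, rfl⟩
    rw [← hb'] at hb
    have hc : c ∈ P := hc' ▸ Normal.conj_mem inferInstance b hb g
    have h1 : g * c * g⁻¹ = w := by
      conv_rhs => rw [← mul_inv_cancel_right w (g ^ 3), hgq w hw, pow_three]
      rw [hc', hb']
      group
    have h2 : w * b * c ∈ 𝐂(P) := k6 _ (mul_mem (mul_mem hw hb) hc) (by
      have : (w * b * c)⁻¹ * (g * (w * b * c) * g⁻¹) = ⁅(b * c)⁻¹, w⁻¹⁆ := by
        rw [show g * (w * b * c) * g⁻¹ = (g * w * g⁻¹) * (g * b * g⁻¹) * (g * c * g⁻¹) by group,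
          h1, ← hb', ← hc', commutatorElement_def]
        group
      exact this ▸ c1 _ (inv_mem (mul_mem hb hc)) _ (inv_mem hw))
    have hb2 : b ^ 2 = 1 := by rw [hb', conj_pow, hwp, mul_one, mul_inv_cancel]
    have hc2 : c ^ 2 = 1 := by rw [hc', conj_pow, hb2, mul_one, mul_inv_cancel]
    have h4 : (w * b * c) ^ 2 = 1 := by
      obtain ⟨y, hy, e⟩ := c3 w hw hw' _ (mul_mem (mul_mem hw hb) hc) h2
      exact e ▸ SE.pow_eq_one c1 c2 hw hy
    have h5 : (w * b) ^ 2 = 1 := by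
      rw [← mul_inv_cancel_right (w * b) c, Commute.mul_pow (h2 _ (inv_mem hc)).symm, h4, inv_pow,
        hc2, inv_one, mul_one]
    have h6 : w * b = b * w := by
      rw [sq] at h5 hwp hb2
      rw [← inv_eq_of_mul_eq_one_left h5, mul_inv_rev, inv_eq_of_mul_eq_one_left hwp,
        inv_eq_of_mul_eq_one_left hb2]
    refine hw' (k5 {w, b} (Set.pair_subset hw hb) ?_ ?_ w (Or.inl rfl))
    · rintro _ (rfl | rfl) _ (rfl | rfl)
      exacts [rfl, h6, h6.symm, rfl]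
    · rintro _ (rfl | rfl)
      · exact hb' ▸ Subgroup.subset_closure (Or.inr (Or.inr rfl))
      · rw [← hc', ← inv_mul_cancel_left (w * _) c]
        exact mul_mem (inv_mem (mul_mem (Subgroup.subset_closure (Or.inr (Or.inl rfl)))
          (Subgroup.subset_closure (Or.inr (Or.inr rfl))))) (Subgroup.subset_closure (Or.inl
          ⟨mul_mem (mul_mem hw hb) hc, h2⟩))
  · obtain rfl : q = 2 := by
      have h1 : q ∣ 2 ^ 3 * 3 := (Nat.modEq_iff_dvd' (by norm_num)).1 hmod.symm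
      exact (Nat.prime_dvd_prime_iff_eq hq.out Nat.prime_two).1 (hq.out.dvd_of_dvd_pow
        (((Nat.Prime.dvd_mul hq.out).1 h1).resolve_right fun e =>
        hpq ((Nat.prime_dvd_prime_iff_eq hq.out Nat.prime_three).1 e)))
    have h1 : g * (g * w * g⁻¹) * g⁻¹ = w := by
      conv_rhs => rw [← mul_inv_cancel_right w (g ^ 2), hgq w hw, sq]
      group
    have h2 : w * (g * w * g⁻¹) ∈ 𝐂(P) := k6 _ (mul_mem hw hb) (by
      have : (w * (g * w * g⁻¹))⁻¹ * (g * (w * (g * w * g⁻¹)) * g⁻¹) = ⁅(g * w * g⁻¹)⁻¹, w⁻¹⁆ := by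
        rw [show g * (w * (g * w * g⁻¹)) * g⁻¹ = (g * w * g⁻¹) * (g * (g * w * g⁻¹) * g⁻¹) by group,
          h1, commutatorElement_def]
        group
      exact this ▸ c1 _ (inv_mem hb) _ (inv_mem hw))
    refine hw' (k5 {w} (by simpa using hw) (by simp) ?_ w rfl)
    rintro _ rfl
    rw [← inv_mul_cancel_left _ (g * _ * g⁻¹)]
    exact mul_mem (inv_mem (Subgroup.subset_closure (Or.inr rfl))) (Subgroup.subset_closure (Or.inl ⟨mul_mem hw hb, h2⟩))

theorem se_of_isMinimalNonNilpotent [Finite G] [hp : Fact p.Prime] (hG : IsMinimalNonNilpotent G)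
    (P : Sylow p G) (hn : (P : Subgroup G).Normal) (h0 : (P : Subgroup G) ≠ ⊥) :
    SE p (P : Subgroup G) := by
  obtain ⟨r, s, S, g, hr, hs, hrs, hS, ⟨k, hk⟩, hsup, hg⟩ := schmidt hG
  have := Fact.mk hr
  have := Fact.mk hs
  by_cases e : s = p
  · subst e
    obtain rfl : P = S := by
      have := Sylow.unique_of_normal P hn
      exact Subsingleton.elim _ _
    exact se_of_schmidt hG hrs P.isPGroup' hk hsup hg
  exfalso
  have hq : p ∣ Nat.card G := by
    by_contra e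
    exact h0 (eq_bot_of_isPGroup_of_coprime P.isPGroup'
      (Nat.Coprime.coprime_dvd_left (card_subgroup_dvd_card _) (coprime_iff_not_dvd.2 e)))
  have hd : p ∣ Nat.card (zpowers g) * Nat.card S := by
    refine hq.trans ?_
    rw [← card_top, ← hsup, sup_comm]
    exact card_sup_dvd_of_normal _ _
  obtain ⟨a, ha⟩ := IsPGroup.iff_card.1 (isPGroup_zpowers hk)
  obtain ⟨b, hb⟩ := IsPGroup.iff_card.1 S.2
  rw [ha, hb, hp.out.dvd_mul] at hd
  have hqr : p = r := (Nat.prime_dvd_prime_iff_eq hp.out hr).1 (hp.out.dvd_of_dvd_pow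
    (hd.resolve_right fun h =>
      e ((Nat.prime_dvd_prime_iff_eq hp.out hs).1 (hp.out.dvd_of_dvd_pow h)).symm))
  subst hqr
  have hgQ : zpowers g ≤ P := le_of_isPGroup_of_coprime_index (isPGroup_zpowers hk)
    (coprime_iff_not_dvd.2 P.not_dvd_index)
  exact hg (le_centralizer_of_coprime le_normalizer_of_normal le_normalizer_of_normal
    (IsPGroup.coprime_card_of_ne p s hrs _ _ P.2 S.2) (hgQ (mem_zpowers g)))

end Cfsg.Lib.Solv
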